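import Groth.Prelude.Def_ThetaK
import Groth.Agent.Grpsch.PicGrp
import Mathlib.CategoryTheory.Monoidal.Cartesian.Over
import Mathlib.CategoryTheory.Monoidal.Cartesian.Grp

/-!
# The subgroup scheme `K(L)`: points, in the Picard group

Only the points calculus which does not need the theorem of the cube (light imports).
-/

set_option autoImplicit false
universe u

open CategoryTheory Limits MonoidalCategory CartesianMonoidalCategory AlgebraicGeometry
open scoped MonObj GrpObj

namespace K529.KL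

open Groth.Agent.Grpsch.PicGrp

/-- The Lambda-module condition, in the Picard group. -/
theorem isLambdaSheaf_iff {W Y : Scheme.{u}} (m p q : W ⟶ Y) {L : Y.Modules}
    (hL : PicF.IsInvertible L) {N : W.Modules} (hN : PicF.IsInvertible N) :
    AgPol.IsLambdaSheaf m p q L N ↔
      mk N hN * pull p (mk L hL) * pull q (mk L hL) = pull m (mk L hL) := by
  rw [pull_mk, pull_mk, pull_mk, mk_mul_mk, mk_mul_mk, mk_eq_iff]
  rfl

theorem isInvertible_of_iso {Y : Scheme.{u}} {L L' : Y.Modules} (e : L ≅ L')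
    (h : PicF.IsInvertible L) : PicF.IsInvertible L' := fun y => by
  obtain ⟨U, hU, ⟨f⟩⟩ := h y
  exact ⟨U, hU, ⟨(Scheme.Modules.restrictFunctor U.ι).mapIso e.symm ≪≫ f⟩⟩

section over

variable {S : Scheme.{u}}

/-- Pull back of a class along a morphism over `S` (the same as `Grpsch.Cube.pl`). -/
noncomputable abbrev pl {T A : Over S} (a : T ⟶ A) : Pic A.left →* Pic T.left := pull a.left

theorem pl_comp {T T' A : Over S} (f : T' ⟶ T) (a : T ⟶ A) (c : Pic A.left) :
    pl (f ≫ a) c = pl f (pl a c) := by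
  unfold pl
  rw [Over.comp_left, pull_comp]

theorem pl_id {A : Over S} (c : Pic A.left) : pl (𝟙 A) c = c := pull_id c

end over

variable {k : Type u} [Field k] {X : Over (Spec (CommRingCat.of k))} [GrpObj X]

theorem pl_one {T : Over (Spec (CommRingCat.of k))} (c : Pic X.left) : pl (1 : T ⟶ X) c = 1 := by
  have h : (1 : T ⟶ X) = toUnit T ≫ η[X] := rfl
  rw [h, pl_comp]
  have : pl η[X] c = 1 := pic_spec_local k _
  rw [this, map_one]

variable (X) in
/-- The unit section `T → X × T`. -/
noncomputable def es (T : Over (Spec (CommRingCat.of k))) : T ⟶ X ⊗ T := lift 1 (𝟙 T)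

theorem es_fst (T : Over (Spec (CommRingCat.of k))) : es X T ≫ fst X T = 1 := lift_fst _ _
theorem es_snd (T : Over (Spec (CommRingCat.of k))) : es X T ≫ snd X T = 𝟙 T := lift_snd _ _

theorem pl_es_fst (T : Over (Spec (CommRingCat.of k))) (c : Pic X.left) :
    pl (es X T) (pl (fst X T) c) = 1 := by
  rw [← pl_comp, es_fst, pl_one]

theorem pl_es_snd (T : Over (Spec (CommRingCat.of k))) (c : Pic T.left) :
    pl (es X T) (pl (snd X T) c) = c := by
  rw [← pl_comp, es_snd, pl_id]

theorem pl_es_snd_comp {T : Over (Spec (CommRingCat.of k))} (z : T ⟶ X) (c : Pic X.left) :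
    pl (es X T) (pl (snd X T ≫ z) c) = pl z c := by
  rw [← pl_comp, ← Category.assoc, es_snd, Category.id_comp]

theorem pl_es_mul {T : Over (Spec (CommRingCat.of k))} (z : T ⟶ X) (c : Pic X.left) :
    pl (es X T) (pl (fst X T * (snd X T ≫ z)) c) = pl z c := by
  rw [← pl_comp, MonObj.comp_mul, es_fst, one_mul, ← Category.assoc, es_snd, Category.id_comp]

theorem whiskerLeft_mul {T : Over (Spec (CommRingCat.of k))} (z : T ⟶ X) :
    (X ◁ z) ≫ μ[X] = fst X T * (snd X T ≫ z) := by
  rw [Hom.mul_def]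
  congr 1

/-- A relation `N ⊗ p₁^*L ⊗ p₂^*L = m^*L` with `N` pulled back from `T` forces `N` trivial. -/
theorem eq_one_of_rel (c : Pic X.left) {T : Over (Spec (CommRingCat.of k))} (z : T ⟶ X)
    (M : Pic T.left) (h : pl (snd X T) M * pl (fst X T) c * pl (snd X T ≫ z) c =
      pl (fst X T * (snd X T ≫ z)) c) : M = 1 := by
  have h1 := congrArg (pl (es X T)) h
  rwa [map_mul, map_mul, pl_es_snd, pl_es_fst, mul_one, pl_es_snd_comp, pl_es_mul,
    mul_eq_right] at h1

/-- The class form of the Mumford condition. -/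
theorem isMumfordTriv_iff {L : X.left.Modules} (hL : PicF.IsInvertible L)
    {T : Over (Spec (CommRingCat.of k))} (z : T ⟶ X) :
    ThetaGrp.IsMumfordTriv X L z ↔
      pl (fst X T * (snd X T ≫ z)) (mk L hL) =
        pl (fst X T) (mk L hL) * pl (snd X T ≫ z) (mk L hL) := by
  constructor
  · rintro ⟨M, hM, h⟩
    have hM' := Groth.Agent.Fdesc.LocGen.isInvertible_pullback (snd X T).left hM
    rw [isLambdaSheaf_iff _ _ _ hL hM', whiskerLeft_mul] at h
    have h1 := eq_one_of_rel (mk L hL) z (mk M hM) h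
    change pl (snd X T) (mk M hM) * pl (fst X T) (mk L hL) * pl (snd X T ≫ z) (mk L hL) = pl _ _ at h
    rw [h1, map_one, one_mul] at h
    exact h.symm
  · intro h
    refine ⟨Coh.structureModule T.left, Groth.Agent.Fdesc.LocGen.isInvertible_structureModule, ?_⟩
    have hM' := Groth.Agent.Fdesc.LocGen.isInvertible_pullback (snd X T).left
      (Groth.Agent.Fdesc.LocGen.isInvertible_structureModule (X := T.left))
    rw [isLambdaSheaf_iff _ _ _ hL hM', whiskerLeft_mul]
    change pl (snd X T) 1 * pl (fst X T) (mk L hL) * pl (snd X T ≫ z) (mk L hL) = pl _ _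
    rw [h, map_one, one_mul]

/-- Points of `K(L)`, universally: for `a, z` with values in `T`, `z` in `K(L)`. -/
theorem pl_mul_of_mem {L : X.left.Modules} (hL : PicF.IsInvertible L)
    {K : Over (Spec (CommRingCat.of k))} {i : K ⟶ X} (hK : ThetaGrp.IsKL X L i)
    {T : Over (Spec (CommRingCat.of k))} (y : T ⟶ K) (a : T ⟶ X) :
    pl (a * (y ≫ i)) (mk L hL) = pl a (mk L hL) * pl (y ≫ i) (mk L hL) := by
  have h := (isMumfordTriv_iff hL (y ≫ i)).mp ((hK.univ T (y ≫ i)).mpr ⟨y, rfl⟩)
  have h1 := congrArg (pl (lift a (𝟙 T))) h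
  rwa [map_mul, ← pl_comp, ← pl_comp, ← pl_comp, MonObj.comp_mul, lift_fst, ← Category.assoc,
    lift_snd, Category.id_comp] at h1

theorem exists_factor_iff {L : X.left.Modules} (hL : PicF.IsInvertible L)
    {K : Over (Spec (CommRingCat.of k))} {i : K ⟶ X} (hK : ThetaGrp.IsKL X L i)
    {T : Over (Spec (CommRingCat.of k))} (x : T ⟶ X) :
    (∃ y : T ⟶ K, y ≫ i = x) ↔ pl (fst X T * (snd X T ≫ x)) (mk L hL) =
        pl (fst X T) (mk L hL) * pl (snd X T ≫ x) (mk L hL) := by
  rw [← isMumfordTriv_iff, hK.univ]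

/-- If `L_T ⊗ pr_T^*M` is isomorphic to an invertible module then `M` is invertible. -/
theorem isInvertible_of_tensor {L : X.left.Modules} (hL : PicF.IsInvertible L)
    {T : Over (Spec (CommRingCat.of k))} (M : T.left.Modules) {N : (X ⊗ T).left.Modules}
    (hN : PicF.IsInvertible N)
    (e : CohB1.tensorMod ((Scheme.Modules.pullback (fst X T).left).obj L)
          ((Scheme.Modules.pullback (snd X T).left).obj M) ≅ N) : PicF.IsInvertible M := by
  have hLT := Groth.Agent.Fdesc.LocGen.isInvertible_pullback (fst X T).left hL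
  obtain ⟨E, hE, ⟨t⟩⟩ := exists_inverse hLT
  -- pr_T^*M ≅ (E ⊗ L_T) ⊗ pr_T^*M ≅ E ⊗ N
  have e1 : (Scheme.Modules.pullback (snd X T).left).obj M ≅ CohB1.tensorMod E N :=
    (Groth.Agent.Ega2.Tens.lunit _).symm ≪≫
      Groth.Agent.Ega2.Tens.mapTIso (t.symm ≪≫ Groth.Agent.Ega2.Tens.swap _ _) (Iso.refl _) ≪≫
      Groth.Agent.Ega2.Tens.assoc _ _ _ ≪≫ Groth.Agent.Ega2.Tens.mapTIso (Iso.refl _) e
  have h1 : PicF.IsInvertible ((Scheme.Modules.pullback (snd X T).left).obj M) :=
    isInvertible_of_iso e1.symm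
      (Groth.Agent.Fdesc.LocGen.isInvertible_tensorMod hE hN)
  have h2 := Groth.Agent.Fdesc.LocGen.isInvertible_pullback (es X T).left h1
  have h3 : (es X T).left ≫ (snd X T).left = 𝟙 T.left := by
    rw [← Over.comp_left, es_snd, Over.id_left]
  have e2 : (Scheme.Modules.pullback (es X T).left).obj
      ((Scheme.Modules.pullback (snd X T).left).obj M) ≅ M :=
    (Scheme.Modules.pullbackComp _ _).app M ≪≫
      (Scheme.Modules.pullbackCongr h3).app M ≪≫ (Scheme.Modules.pullbackId T.left).app M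
  exact isInvertible_of_iso e2 h2

end K529.KL
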