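import Groth.Agent.AbVar.K524.Bc
import Groth.Agent.S7635

/-!
# Künneth formula for Euler characteristics
-/

set_option autoImplicit false
universe u

open CategoryTheory CategoryTheory.Limits MonoidalCategory CartesianMonoidalCategory AlgebraicGeometry TopologicalSpace
open scoped MonObj GrpObj
open Groth.Agent Groth.Agent.Grpsch.PicGrp Groth.Agent.Grpsch.Cube K524.Kun K524.Chi

namespace K529.EulerBox

/-- The alternating sum of a convolution. -/
theorem sum_conv (h h' H : ℕ → ℕ) (N : ℕ) (hh : ∀ n, N ≤ n → h n = 0) (hh' : ∀ n, N ≤ n → h' n = 0)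
    (hH : ∀ n, H n = ∑ p ∈ Finset.antidiagonal n, h p.1 * h' p.2) :
    ∑ n ∈ Finset.range (N + N), (-1 : ℤ) ^ n * (H n : ℤ) =
      (∑ n ∈ Finset.range N, (-1 : ℤ) ^ n * (h n : ℤ)) * ∑ n ∈ Finset.range N, (-1 : ℤ) ^ n * (h' n : ℤ) := by
  let P : (ℕ → ℕ) → Polynomial ℤ := fun f => ∑ n ∈ Finset.range N, Polynomial.C (f n : ℤ) * Polynomial.X ^ n
  have hP : ∀ f : ℕ → ℕ, (∀ n, N ≤ n → f n = 0) → ∀ n, (P f).coeff n = f n := by
    intro f hf n
    simp only [P, Polynomial.finsetSum_coeff, Polynomial.coeff_C_mul, Polynomial.coeff_X_pow, mul_ite, mul_one, mul_zero]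
    rw [Finset.sum_ite_eq]
    split_ifs with hn
    · rfl
    · rw [hf n (by simpa using hn)]
      rfl
  have heval : ∀ f : ℕ → ℕ, (P f).eval (-1) = ∑ n ∈ Finset.range N, (-1 : ℤ) ^ n * (f n : ℤ) := fun f => by
    simp only [P, Polynomial.eval_finsetSum, Polynomial.eval_mul, Polynomial.eval_C, Polynomial.eval_pow,
      Polynomial.eval_X]
    exact Finset.sum_congr rfl fun n _ => mul_comm _ _
  rw [← heval h, ← heval h', ← Polynomial.eval_mul]
  rcases Nat.eq_zero_or_pos N with rfl | hN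
  · simp [P]
  have hd : ∀ f : ℕ → ℕ, (∀ n, N ≤ n → f n = 0) → (P f).natDegree < N := fun f hf => by
    have h1 : (P f).natDegree ≤ N - 1 := Polynomial.natDegree_le_iff_coeff_eq_zero.mpr fun n hn => by
      rw [hP f hf, hf n (by omega)]
      rfl
    omega
  rw [Polynomial.eval_eq_sum_range' (n := N + N) (lt_of_le_of_lt Polynomial.natDegree_mul_le (Nat.add_lt_add (hd h hh) (hd h' hh')))]
  refine Finset.sum_congr rfl fun n _ => ?_
  rw [Polynomial.coeff_mul, hH n, mul_comm]
  push_cast
  congr 1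
  exact Finset.sum_congr rfl fun p _ => by rw [hP h hh, hP h' hh']

variable {k : Type u} [Field k]

theorem euler_range {X : Over (Spec (CommRingCat.of k))} {L : X.left.Modules} (N : ℕ)
    (hN : ∀ n, N ≤ n → Subsingleton (Coh.HH X.left L n)) (N' : ℕ) (hN' : N ≤ N') :
    @Curv2.euler k _ X.left ⟨X.hom⟩ L = ∑ n ∈ Finset.range N', (-1 : ℤ) ^ n *
      ((@Module.finrank k (Coh.HH X.left L n) _ _ (@Coh.moduleOver k _ X.left ⟨X.hom⟩ L n) : ℕ) : ℤ) := by
  let _ : X.left.Over (Spec (CommRingCat.of k)) := ⟨X.hom⟩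
  unfold Curv2.euler
  refine finsum_eq_sum_of_support_subset _ fun n hn => ?_
  rw [Finset.coe_range, Set.mem_Iio]
  by_contra hlt
  have := hN n (by omega)
  apply hn
  change (-1 : ℤ) ^ n * ((Module.finrank k (Coh.HH X.left L n) : ℕ) : ℤ) = 0
  rw [Module.finrank_zero_of_subsingleton]
  simp

/-- Künneth for Euler characteristics of classes. -/
theorem chi_box {X Y : Over (Spec (CommRingCat.of k))} [IsProper X.hom] [IsProper Y.hom] (N : ℕ) (c : Pic X.left)
    (d : Pic Y.left) (hc : ∀ n, N ≤ n → Van c n) (hd : ∀ n, N ≤ n → Van d n) :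
    chi (X := X ⊗ Y) (pl (fst X Y) c * pl (snd X Y) d) = chi c * chi d := by
  obtain ⟨L, hL, rfl⟩ := exists_mk c
  obtain ⟨M, hM, rfl⟩ := exists_mk d
  simp only [van_mk] at hc hd
  rw [pull_mk, pull_mk, mk_mul_mk, chi_mk, chi_mk, chi_mk]
  let iX : X.left.Over (Spec (CommRingCat.of k)) := ⟨X.hom⟩
  let iY : Y.left.Over (Spec (CommRingCat.of k)) := ⟨Y.hom⟩
  let iXY : (X ⊗ Y).left.Over (Spec (CommRingCat.of k)) := ⟨(X ⊗ Y).hom⟩
  have c1 : CompactSpace X.left := (quasiCompact_iff_compactSpace X.hom).mp inferInstance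
  have c2 : CompactSpace Y.left := (quasiCompact_iff_compactSpace Y.hom).mp inferInstance
  have d1 : IsSeparated (X.left ↘ Spec (CommRingCat.of k)) := inferInstanceAs (IsSeparated X.hom)
  have d2 : IsSeparated (Y.left ↘ Spec (CommRingCat.of k)) := inferInstanceAs (IsSeparated Y.hom)
  have key : ∀ n, Nonempty (Coh.HH (X ⊗ Y).left (CohB1.tensorMod ((Scheme.Modules.pullback (fst X Y).left).obj L)
      ((Scheme.Modules.pullback (snd X Y).left).obj M)) n ≃ₗ[k]
      DirectSum (Finset.antidiagonal n) fun pq => TensorProduct k (Coh.HH X.left L pq.1.1) (Coh.HH Y.left M pq.1.2)) :=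
    fun n => Groth.Agent.S7635.kunneth_aux k X.left Y.left L (isQCoh_of_isInvertible hL) M (isQCoh_of_isInvertible hM) n
  have f1 : ∀ n, Module.Finite k (Coh.HH X.left L n) := fun n => K524.Bc.finite_HH hL n
  have f2 : ∀ n, Module.Finite k (Coh.HH Y.left M n) := fun n => K524.Bc.finite_HH hM n
  rw [euler_range N hc N le_rfl, euler_range N hd N le_rfl,
    euler_range (X := X ⊗ Y) (N + N) (fun n hn => by
      obtain ⟨e⟩ := key n
      have h1 : ∀ pq : Finset.antidiagonal n, Subsingleton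
          (TensorProduct k (Coh.HH X.left L pq.1.1) (Coh.HH Y.left M pq.1.2)) := fun pq => by
        have h2 := Finset.mem_antidiagonal.1 pq.2
        rw [subsingleton_tensor_iff]
        rcases Nat.lt_or_ge pq.1.1 N with h | h
        · exact Or.inr (hd _ (by omega))
        · exact Or.inl (hc _ h)
      have h3 : Subsingleton (DirectSum (Finset.antidiagonal n) fun pq =>
        TensorProduct k (Coh.HH X.left L pq.1.1) (Coh.HH Y.left M pq.1.2)) := inferInstance
      exact e.toEquiv.subsingleton) (N + N) le_rfl]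
  refine sum_conv _ _ _ N (fun n hn => ?_) (fun n hn => ?_) (fun n => ?_)
  · have := hc n hn
    exact Module.finrank_zero_of_subsingleton
  · have := hd n hn
    exact Module.finrank_zero_of_subsingleton
  · obtain ⟨e⟩ := key n
    refine e.finrank_eq.trans ?_
    rw [Module.finrank_directSum]
    refine Eq.trans ?_ (Finset.sum_coe_sort (Finset.antidiagonal n)
      (fun p => Module.finrank k (Coh.HH X.left L p.1) * Module.finrank k (Coh.HH Y.left M p.2)))
    exact Finset.sum_congr rfl fun (p : Finset.antidiagonal n) _ =>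
      Module.finrank_tensorProduct (R := k) (S := k) (M := Coh.HH X.left L p.1.1) (M' := Coh.HH Y.left M p.1.2)

end K529.EulerBox
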