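import Groth.Agent.AbVar.K529.ConvD
import Groth.Agent.AbVar.K529.EulerBox
import Groth.Agent.AbSch.K450.RRChi
import Groth.Agent.S1525
import Groth.Agent.NonPure.K981.HilbSub

/-!
# `rank K(L) = χ(L)²` for `L` nondegenerate, over any field
-/

set_option autoImplicit false
universe u

open CategoryTheory CategoryTheory.Limits MonoidalCategory CartesianMonoidalCategory AlgebraicGeometry TopologicalSpace
open scoped MonObj GrpObj
open Groth.Agent Groth.Agent.Grpsch.PicGrp Groth.Agent.Grpsch.Cube K524.Kun K524.Chi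

namespace K529.ChiSq

open ConvPts ConvMain

variable {k : Type u} [Field k]

theorem euler_of_isZero (k : Type u) [Field k] (X : Scheme.{u}) [X.Over (Spec (CommRingCat.of k))] {F : X.Modules}
    (hF : IsZero F) : Curv2.euler k X F = 0 := by
  unfold Curv2.euler
  rw [← finsum_zero (α := ℕ) (M := ℤ)]
  refine finsum_congr fun n => ?_
  have := VarietyA.LerayEuler.subsingleton_of_isZero X hF n
  rw [Module.finrank_zero_of_subsingleton]
  simp

/-- Leray for a single nonzero higher direct image. -/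
theorem euler_leray {X Y : Over (Spec (CommRingCat.of k))} [IsProper X.hom] [IsProper Y.hom] (f : Y ⟶ X)
    {G : Y.left.Modules} (hG : Coh.IsCoh G) (g : ℕ) (F : X.left.Modules)
    (h0 : ∀ p, p ≠ g → ∀ [HasInjectiveResolutions Y.left.Modules], IsZero ((Coh.Rpush f.left p).obj G))
    (h1 : ∀ [HasInjectiveResolutions Y.left.Modules], Nonempty ((Coh.Rpush f.left g).obj G ≅ F)) :
    @Curv2.euler k _ Y.left ⟨Y.hom⟩ G = (-1) ^ g * @Curv2.euler k _ X.left ⟨X.hom⟩ F := by
  let iX : X.left.Over (Spec (CommRingCat.of k)) := ⟨X.hom⟩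
  let iY : Y.left.Over (Spec (CommRingCat.of k)) := ⟨Y.hom⟩
  have p1 : IsProper (X.left ↘ Spec (CommRingCat.of k)) := inferInstanceAs (IsProper X.hom)
  have p2 : IsProper (Y.left ↘ Spec (CommRingCat.of k)) := inferInstanceAs (IsProper Y.hom)
  have hinj : HasInjectiveResolutions Y.left.Modules := Dcoh.DerSch.hasInjectiveResolutions _
  rw [Groth.Agent.S1525.result k X.left Y.left f.left (Over.w f) G hG, finsum_eq_single _ g]
  · obtain ⟨e⟩ := h1
    rw [euler_congr k X.left e]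
  · intro n hn
    rw [euler_of_isZero k X.left (h0 n hn), mul_zero]

variable {A : Over (Spec (CommRingCat.of k))} [GrpObj A] [IsProper A.hom] [GeometricallyIntegral A.hom]

omit [GrpObj A] [GeometricallyIntegral A.hom] in
theorem euler_push_finite {K : Over (Spec (CommRingCat.of k))} (i : K ⟶ A) [IsClosedImmersion i.left] [IsFinite K.hom] :
    @Curv2.euler k _ A.left ⟨A.hom⟩ ((Scheme.Modules.pushforward i.left).obj (Coh.structureModule K.left)) =
      @Curv2.euler k _ K.left ⟨K.hom⟩ (Coh.structureModule K.left) := by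
  have h := euler_leray i (G := Coh.structureModule K.left) (TopMain.isCoh_of_isInvertible
    Groth.Agent.Fdesc.LocGen.isInvertible_structureModule) 0
    ((Scheme.Modules.pushforward i.left).obj (Coh.structureModule K.left)) (fun p hp _ =>
      PerfC.RpushAffine.isZero_Rpush i.left _ (TopMain.isCoh_of_isInvertible
        Groth.Agent.Fdesc.LocGen.isInvertible_structureModule).1 p (Nat.pos_of_ne_zero hp))
    ⟨(Scheme.Modules.pushforward i.left).rightDerivedZeroIsoSelf.app _⟩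
  rw [h]
  simp

/-- `χ` is invariant under isomorphisms. -/
theorem chi_iso {X Y : Over (Spec (CommRingCat.of k))} [IsProper X.hom] [IsProper Y.hom] (f : X ⟶ Y) [IsIso f.left]
    (c : Pic Y.left) : chi (pl f c) = chi c := by
  obtain ⟨L, hL, rfl⟩ := exists_mk c
  rw [pull_mk, chi_mk, chi_mk]
  let iX : X.left.Over (Spec (CommRingCat.of k)) := ⟨X.hom⟩
  let iY : Y.left.Over (Spec (CommRingCat.of k)) := ⟨Y.hom⟩
  have p1 : QuasiCompact (Y.left ↘ Spec (CommRingCat.of k)) := inferInstanceAs (QuasiCompact Y.hom)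
  have p2 : QuasiSeparated (Y.left ↘ Spec (CommRingCat.of k)) := inferInstanceAs (QuasiSeparated Y.hom)
  refine K524.Num.euler_baseChange k Y.left k X.left f.left ?_ L (isQCoh_of_isInvertible hL)
  have h3 : Spec.map (CommRingCat.ofHom (algebraMap k k)) = 𝟙 (Spec (CommRingCat.of k)) := Spec.map_id _
  rw [h3]
  exact IsPullback.of_horiz_isIso ⟨by rw [Category.comp_id]; exact Over.w f⟩

theorem chi_inv (g : ℕ) (hg : topologicalKrullDim A.left = g) (c : Pic A.left) : chi c⁻¹ = (-1) ^ g * chi c := by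
  obtain ⟨L, hL, rfl⟩ := exists_mk c
  obtain ⟨M, hM, hM'⟩ := exists_mk (mk L hL)⁻¹
  have h1 : mk L hL * mk M hM = 1 := by rw [← hM', mul_inv_cancel]
  rw [mk_mul_mk, mk_eq_one_iff] at h1
  obtain ⟨e⟩ := h1
  rw [hM', chi_mk, chi_mk, ← K450.RRChi.chi_mc k A g hg L, ← K450.RRChi.chi_mc k A g hg M]
  refine K450.RRChi.chi_inv k A g hg L M hL hM ?_
  rw [← Fga.PicMon.mc_tensor, Fga.PicMon.mc_eq e, Fga.PicMon.mc_one]

variable {L : A.left.Modules} (hL : PicF.IsInvertible L)
  {K : Over (Spec (CommRingCat.of k))} {i : K ⟶ A} (hK : ThetaGrp.IsKL A L i) [IsFinite K.hom] (g : ℕ)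
  (hg : topologicalKrullDim A.left = g)

include hK hg in
theorem chi_box_eq : chi (X := A ⊗ A) (box (mk L hL)) =
    (-1) ^ g * @Curv2.euler k _ K.left ⟨K.hom⟩ (Coh.structureModule K.left) := by
  obtain ⟨E, hE, hEc⟩ := exists_mk (box (mk L hL))
  have hcl := hK.closed
  have hp : IsProper (A ⊗ A).hom := inferInstanceAs (IsProper (pullback.fst A.hom A.hom ≫ A.hom))
  rw [hEc, chi_mk, ← euler_push_finite i]
  refine euler_leray (μ[A] : A ⊗ A ⟶ A) (TopMain.isCoh_of_isInvertible hE) g _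
    (fun p hp _ => isZero_Rpush hL hK hE hEc.symm g hg p hp)
    (ConvMain.nonempty_iso hL hK hE hEc.symm g hg Groth.Agent.Fdesc.LocGen.isInvertible_structureModule)

include hK hg in
/-- `χ(L)² = dim_k Γ(K(L), O)`. -/
theorem chi_sq_euler : chi (mk L hL) ^ 2 = @Curv2.euler k _ K.left ⟨K.hom⟩ (Coh.structureModule K.left) := by
  have h1 := chi_box_eq hL hK g hg
  have hinv : IsIso ((𝟙 A)⁻¹ : A ⟶ A).left := by
    have h2 : (𝟙 A : A ⟶ A)⁻¹ ≫ (𝟙 A)⁻¹ = 𝟙 A := by rw [GrpObj.comp_inv, Category.comp_id, inv_inv]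
    exact ⟨((𝟙 A)⁻¹ : A ⟶ A).left, by rw [← Over.comp_left, h2]; rfl, by rw [← Over.comp_left, h2]; rfl⟩
  have h2 : box (mk L hL) = pl (fst A A) (mk L hL) * pl (snd A A) (pl (𝟙 A)⁻¹ (mk L hL)⁻¹) := by
    rw [box, ← pl_comp, GrpObj.comp_inv, Category.comp_id, map_inv]
  have hv : ∀ (c : Pic A.left) n, g + 1 ≤ n → Van c n := fun c n hn =>
    K524.Key.van_of_dim A.hom (g := g) hg.le c n (by omega)
  rw [h2, EulerBox.chi_box (g + 1) _ _ (hv _) (hv _), chi_iso, chi_inv g hg] at h1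
  have h3 : (-1 : ℤ) ^ g * (-1) ^ g = 1 := by rw [← mul_pow]; simp
  linear_combination (-1 : ℤ) ^ g * h1 -
    (chi (mk L hL) ^ 2 - @Curv2.euler k _ K.left ⟨K.hom⟩ (Coh.structureModule K.left)) * h3

include hK hg in
/-- `χ(L)² = rank K(L)`. -/
theorem chi_sq (r : ℕ) (hr : ∀ s : ↥(Spec (CommRingCat.of k)), Scheme.Hom.finrank K.hom s = r) :
    chi (mk L hL) ^ 2 = r := by
  rw [chi_sq_euler hL hK g hg]
  let iK : K.left.Over (Spec (CommRingCat.of k)) := ⟨K.hom⟩
  exact K981.HilbSub.euler_finite k K.left (ℓ := r) ⟨⟨‹IsFinite K.hom›, inferInstanceAs (Flat K.hom),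
    inferInstanceAs (LocallyOfFinitePresentation K.hom)⟩, hr⟩

end K529.ChiSq
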