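import Mathlib.LinearAlgebra.BilinearForm.Properties
import Mathlib.LinearAlgebra.BilinearForm.Orthogonal
import Mathlib.Algebra.Polynomial.Reverse
import Mathlib.Algebra.Polynomial.AlgebraMap
import Mathlib.Algebra.Polynomial.RingDivision
import Mathlib.RingTheory.Coprime.Lemmas
import Mathlib.RingTheory.Artinian.Module
import Mathlib.LinearAlgebra.Eigenspace.Basic

/-!
# Bilinear forms invariant under an automorphism: generalized kernels
-/

set_option autoImplicit false
universe u v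

namespace K529.Bilin

open Polynomial

variable {k : Type u} [Field k] {V : Type v} [AddCommGroup V] [Module k V]
    (B : LinearMap.BilinForm k V) (M : V ≃ₗ[k] V)

theorem commute_aeval_pow (M : V →ₗ[k] V) (P : k[X]) (m n : ℕ) (x : V) :
    (aeval M P ^ n) ((M ^ m) x) = (M ^ m) ((aeval M P ^ n) x) := by
  have : Commute (aeval M P ^ n) (M ^ m) := by
    refine Commute.pow_pow ?_ n m
    have h := (Commute.all P (X : k[X])).map (aeval M)
    rwa [aeval_X] at h
  exact LinearMap.congr_fun this.eq x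

theorem pow_pow (hM : ∀ x y : V, B (M x) (M y) = B x y) (n : ℕ) (x y : V) :
    B (((M : V →ₗ[k] V) ^ n) x) (((M : V →ₗ[k] V) ^ n) y) = B x y := by
  induction n with
  | zero => simp
  | succ n ih =>
    rw [pow_succ', Module.End.mul_apply, Module.End.mul_apply]
    exact (hM _ _).trans ih

/-- `B(P(M) x, M^d y) = B(x, P^rev(M) y)`. -/
theorem aeval_reverse (hM : ∀ x y : V, B (M x) (M y) = B x y) (P : k[X]) (x y : V) :
    B (aeval (M : V →ₗ[k] V) P x) (((M : V →ₗ[k] V) ^ P.natDegree) y) =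
      B x (aeval (M : V →ₗ[k] V) P.reverse y) := by
  have h1 : aeval (M : V →ₗ[k] V) P = ∑ i ∈ Finset.range (P.natDegree + 1),
      P.coeff i • ((M : V →ₗ[k] V) ^ i) := aeval_eq_sum_range _
  have h2 : aeval (M : V →ₗ[k] V) P.reverse = ∑ i ∈ Finset.range (P.natDegree + 1),
      P.reverse.coeff i • ((M : V →ₗ[k] V) ^ i) :=
    aeval_eq_sum_range' (Nat.lt_succ_of_le P.reverse_natDegree_le) _
  rw [h1, h2, ← Finset.sum_range_reflect (fun i => P.reverse.coeff i • ((M : V →ₗ[k] V) ^ i))]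
  simp only [LinearMap.sum_apply, map_sum, LinearMap.smul_apply, map_smul]
  refine Finset.sum_congr rfl fun i hi => ?_
  have hi' : i ≤ P.natDegree := Nat.lt_succ_iff.mp (Finset.mem_range.mp hi)
  have e1 : P.natDegree + 1 - 1 - i = P.natDegree - i := by omega
  rw [e1, coeff_reverse, revAt_le (Nat.sub_le _ _), Nat.sub_sub_self hi']
  congr 1
  conv_lhs => rw [← Nat.add_sub_cancel' hi', pow_add, Module.End.mul_apply]
  exact pow_pow B M hM i _ _

theorem aeval_reverse_pow (hM : ∀ x y : V, B (M x) (M y) = B x y) (P : k[X]) (n : ℕ) (x y : V) :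
    B ((aeval (M : V →ₗ[k] V) P ^ n) x) (((M : V →ₗ[k] V) ^ (P.natDegree * n)) y) =
      B x ((aeval (M : V →ₗ[k] V) P.reverse ^ n) y) := by
  induction n generalizing x y with
  | zero => simp
  | succ n ih =>
    rw [pow_succ, Module.End.mul_apply, Nat.mul_succ, pow_add, Module.End.mul_apply, ih,
      commute_aeval_pow, aeval_reverse B M hM, pow_succ', Module.End.mul_apply]

theorem pow_surj (n : ℕ) (y : V) : ∃ z, ((M : V →ₗ[k] V) ^ n) z = y := by
  induction n generalizing y with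
  | zero => exact ⟨y, by simp⟩
  | succ n ih =>
    obtain ⟨z, hz⟩ := ih (M.symm y)
    refine ⟨z, ?_⟩
    rw [pow_succ', Module.End.mul_apply, hz]
    exact M.apply_symm_apply y

/-- Vectors killed by `P(M)^n` are orthogonal to the range of `P^rev(M)^n`. -/
theorem ortho_range (hM : ∀ x y : V, B (M x) (M y) = B x y) (P : k[X]) (n : ℕ) (x z : V)
    (hx : (aeval (M : V →ₗ[k] V) P ^ n) x = 0) :
    B x ((aeval (M : V →ₗ[k] V) P.reverse ^ n) z) = 0 := by
  rw [← aeval_reverse_pow B M hM, hx, map_zero, LinearMap.zero_apply]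

theorem ker_aeval_mono (M : V →ₗ[k] V) (P : k[X]) {n m : ℕ} (h : n ≤ m) (x : V)
    (hx : (aeval M P ^ n) x = 0) : (aeval M P ^ m) x = 0 := by
  obtain ⟨c, rfl⟩ := Nat.exists_eq_add_of_le' h
  rw [pow_add, Module.End.mul_apply, hx, map_zero]

/-- Coprime polynomials: the generalized kernel of the second lies in the range of the first. -/
theorem mem_range_of_coprime (M : V →ₗ[k] V) (P Q : k[X]) (h : IsCoprime P Q) (n m : ℕ) (y : V)
    (hy : (aeval M Q ^ m) y = 0) : ∃ z, (aeval M P ^ n) z = y := by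
  obtain ⟨a, b, hab⟩ := h.pow (m := n) (n := m)
  refine ⟨aeval M a y, ?_⟩
  have := LinearMap.congr_fun (congrArg (aeval M) hab) y
  rw [map_add, map_mul, map_mul, map_pow, map_pow, map_one, LinearMap.add_apply,
    Module.End.mul_apply, Module.End.mul_apply, hy, map_zero, add_zero, Module.End.one_apply] at this
  have hc : Commute (aeval M P ^ n) (aeval M a) := by
    rw [← map_pow]
    exact (Commute.all _ _).map (aeval M)
  exact (LinearMap.congr_fun hc.eq y).trans this

theorem exists_isCompl [FiniteDimensional k V] (f : Module.End k V) :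
    ∃ N : ℕ, ∀ n ≥ N, ∀ x : V, ∃ a b : V, x = a + (f ^ n) b ∧ (f ^ n) a = 0 := by
  obtain ⟨N, hN⟩ := Filter.eventually_atTop.mp (LinearMap.eventually_codisjoint_ker_pow_range_pow f)
  refine ⟨N, fun n hn x => ?_⟩
  have hx : x ∈ LinearMap.ker (f ^ n) ⊔ LinearMap.range (f ^ n) := by
    rw [(hN n hn).eq_top]; trivial
  obtain ⟨a, ha, _, ⟨b, rfl⟩, rfl⟩ := Submodule.mem_sup.mp hx
  exact ⟨a, b, rfl, ha⟩

theorem mem_iSup_ker {f : Module.End k V} {x : V} :
    x ∈ (⨆ n : ℕ, LinearMap.ker (f ^ n)) ↔ ∃ n : ℕ, (f ^ n) x = 0 := by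
  rw [Submodule.mem_iSup_of_directed]
  · simp only [LinearMap.mem_ker]
  · refine Monotone.directed_le fun a b h x hx => ?_
    obtain ⟨c, rfl⟩ := Nat.exists_eq_add_of_le' h
    rw [LinearMap.mem_ker, pow_add, Module.End.mul_apply, LinearMap.mem_ker.mp hx, map_zero]

/-- The form restricted to the generalized kernel of a self-reciprocal polynomial. -/
theorem eq_zero_of_forall_left [FiniteDimensional k V] (hB : B.SeparatingLeft)
    (hM : ∀ x y : V, B (M x) (M y) = B x y)
    (Q : k[X]) (hQ : Associated Q Q.reverse) (x : V)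
    (hx : ∃ n : ℕ, (aeval (M : V →ₗ[k] V) Q ^ n) x = 0)
    (h : ∀ y : V, (∃ n : ℕ, (aeval (M : V →ₗ[k] V) Q ^ n) y = 0) → B x y = 0) : x = 0 := by
  refine hB x fun y => ?_
  obtain ⟨n₀, hn₀⟩ := hx
  obtain ⟨N, hN⟩ := exists_isCompl (aeval (M : V →ₗ[k] V) Q)
  obtain ⟨a, b, rfl, ha⟩ := hN (max N n₀) (le_max_left _ _) y
  rw [map_add, h a ⟨_, ha⟩, zero_add]
  obtain ⟨u, hu⟩ := hQ.symm
  have h1 : aeval (M : V →ₗ[k] V) Q ^ (max N n₀) = aeval (M : V →ₗ[k] V) Q.reverse ^ (max N n₀) *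
      aeval (M : V →ₗ[k] V) (u : k[X]) ^ (max N n₀) := by
    rw [← map_pow, ← map_pow, ← map_pow, ← map_mul, ← mul_pow, hu]
  rw [h1, Module.End.mul_apply]
  exact ortho_range B M hM Q _ x _ (ker_aeval_mono _ _ (le_max_right _ _) _ hn₀)

/-! ### Forms scaled by `q` -/

theorem scaled_pow {q : k} (hM : ∀ x y : V, B (M x) (M y) = q * B x y) (n : ℕ) (x y : V) :
    B ((((M : V →ₗ[k] V) - (1 : k) • 1) ^ n) x) (((M : V →ₗ[k] V) ^ n) y) =
      (-1) ^ n * B x ((((M : V →ₗ[k] V) - q • 1) ^ n) y) := by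
  induction n generalizing x y with
  | zero => simp
  | succ n ih =>
    have hc : Commute ((M : V →ₗ[k] V) - q • 1) ((M : V →ₗ[k] V)) := by
      refine Commute.sub_left (Commute.refl _) ?_
      exact (Commute.one_left _).smul_left q
    have h1 : ∀ z : V, B (M z) y - B z y = B (M z) y - B z y := fun _ => rfl
    rw [pow_succ, Module.End.mul_apply, pow_succ, Module.End.mul_apply, ih]
    have h2 : (((M : V →ₗ[k] V) - q • 1) ^ n) (M y) = M ((((M : V →ₗ[k] V) - q • 1) ^ n) y) :=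
      LinearMap.congr_fun (hc.pow_left n).eq y
    have h3 : (((M : V →ₗ[k] V) - q • 1) ^ (n + 1)) y =
        M ((((M : V →ₗ[k] V) - q • 1) ^ n) y) - q • ((((M : V →ₗ[k] V) - q • 1) ^ n) y) := by
      rw [pow_succ', Module.End.mul_apply]
      rfl
    change _ * B (((M : V →ₗ[k] V) - (1 : k) • 1) x) ((((M : V →ₗ[k] V) - q • 1) ^ n) (M y)) = _
    rw [h2, h3]
    generalize (((M : V →ₗ[k] V) - q • 1) ^ n) y = w
    have h4 : ((M : V →ₗ[k] V) - (1 : k) • 1) x = M x - x := by
      simp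
    rw [h4, map_sub, LinearMap.sub_apply, hM, map_sub, map_smul, pow_succ, smul_eq_mul]
    ring

/-- Vectors killed by `(M - 1)^n` are orthogonal to the range of `(M - q)^n`. -/
theorem scaled_left {q : k} (hM : ∀ x y : V, B (M x) (M y) = q * B x y) (n : ℕ) (x z : V)
    (hx : (((M : V →ₗ[k] V) - (1 : k) • 1) ^ n) x = 0) :
    B x ((((M : V →ₗ[k] V) - q • 1) ^ n) z) = 0 := by
  have := scaled_pow B M hM n x z
  rw [hx, map_zero, LinearMap.zero_apply] at this
  have h1 : ((-1 : k)) ^ n ≠ 0 := pow_ne_zero _ (neg_ne_zero.mpr one_ne_zero)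
  exact (mul_eq_zero.mp this.symm).resolve_left h1

/-- Vectors killed by `(M - q)^n` are orthogonal to the range of `(M - 1)^n`. -/
theorem scaled_right {q : k} (hM : ∀ x y : V, B (M x) (M y) = q * B x y) (n : ℕ) (z y : V)
    (hy : (((M : V →ₗ[k] V) - q • 1) ^ n) y = 0) :
    B ((((M : V →ₗ[k] V) - (1 : k) • 1) ^ n) z) y = 0 := by
  obtain ⟨w, rfl⟩ := pow_surj M n y
  rw [scaled_pow B M hM]
  have hc : Commute (((M : V →ₗ[k] V) - q • 1) ^ n) ((M : V →ₗ[k] V) ^ n) := by
    refine Commute.pow_pow ?_ n n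
    refine Commute.sub_left (Commute.refl _) ?_
    exact (Commute.one_left _).smul_left q
  have h1 : ((M : V →ₗ[k] V) ^ n) ((((M : V →ₗ[k] V) - q • 1) ^ n) w) = 0 := by
    have := LinearMap.congr_fun hc.eq w
    exact this.symm.trans hy
  have h2 : Function.Injective ⇑((M : V →ₗ[k] V) ^ n) := by
    rw [Module.End.coe_pow]
    exact M.injective.iterate n
  rw [h2 (h1.trans (map_zero _).symm), map_zero, mul_zero]

theorem sub_smul_eq_aeval (M : V →ₗ[k] V) (a : k) : M - a • 1 = aeval M (X - C a) := by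
  rw [map_sub, aeval_X, aeval_C, Algebra.algebraMap_eq_smul_one]

theorem ker_mono (f : Module.End k V) {n m : ℕ} (h : n ≤ m) (x : V)
    (hx : (f ^ n) x = 0) : (f ^ m) x = 0 := by
  obtain ⟨c, rfl⟩ := Nat.exists_eq_add_of_le' h
  rw [pow_add, Module.End.mul_apply, hx, map_zero]

theorem coprime_sub {a b : k} (h : a ≠ b) : IsCoprime (X - C a) (X - C b) :=
  isCoprime_X_sub_C_of_isUnit_sub (sub_ne_zero.mpr h).isUnit

end K529.Bilin
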