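import Groth.Agent.AbVar.K529.ConvPts
import Groth.Agent.AbVar.K524.PicZeroVan
import Groth.Agent.RedSub.H654.PtBc

/-!
# The slices of `box c` over extension fields are additive

`K` a field over `k`, `σ : Spec K ⟶ Spec k`, `y` a point of `A` over `σ`.  The class `pl (shr y) (box c)` on
`A ×_k K` is additive for the group structure of `A_K` (`add_slice`), hence has no cohomology if it is nontrivial.
-/

set_option autoImplicit false
universe u

open CategoryTheory CategoryTheory.Limits MonoidalCategory CartesianMonoidalCategory AlgebraicGeometry TopologicalSpace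
open scoped MonObj GrpObj
open Groth.Agent Groth.Agent.Grpsch.PicGrp Groth.Agent.Grpsch.Cube
open Groth.Agent.RedSub.H654.PtBc

attribute [local instance] Functor.grpObjObj

namespace K529.ConvAdd

open ConvPts K524.PicZeroVan

variable {k : Type u} [Field k] {A : Over (Spec (CommRingCat.of k))} [GrpObj A]
  [IsProper A.hom] [GeometricallyIntegral A.hom] {K : Type u} [Field K]
  (σ : Spec (CommRingCat.of K) ⟶ Spec (CommRingCat.of k))

theorem aux_group {G : Type*} [CommGroup G] {p q r s t v : G} (h : p * t * v = q * r * s) :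
    q * p⁻¹ = t * r⁻¹ * (v * s⁻¹) := by
  have h1 : q = p * t * v * (r * s)⁻¹ := by rw [h, mul_assoc q, mul_inv_cancel_right]
  rw [mul_inv_eq_iff_eq_mul, h1, mul_inv]
  ac_rfl

/-- A point of the base change, as a point of `A ⊗ Spec K`. -/
noncomputable def toTens {V : Scheme.{u}} {a : V ⟶ Spec (CommRingCat.of K)} (m : Over.mk a ⟶ (Over.pullback σ).obj A) :
    Over.mk (a ≫ σ) ⟶ A ⊗ Over.mk σ :=
  Over.homMk m.left (by
    have h1 : m.left ≫ pullback.snd A.hom σ = a := Over.w m
    have h2 : (A ⊗ Over.mk σ).hom = pullback.snd A.hom σ ≫ σ := pullback.condition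
    rw [h2]
    exact congrArg (· ≫ σ) h1)

omit [GrpObj A] [IsProper A.hom] [GeometricallyIntegral A.hom] in
theorem toTens_fst {V : Scheme.{u}} {a : V ⟶ Spec (CommRingCat.of K)} (m : Over.mk a ⟶ (Over.pullback σ).obj A) :
    toTens σ m ≫ fst A (Over.mk σ) = dn rfl m := by
  ext1
  rfl

omit [GrpObj A] [IsProper A.hom] [GeometricallyIntegral A.hom] in
theorem toTens_snd {V : Scheme.{u}} {a : V ⟶ Spec (CommRingCat.of K)} (m : Over.mk a ⟶ (Over.pullback σ).obj A) :
    toTens σ m ≫ snd A (Over.mk σ) = Over.homMk a rfl := by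
  ext1
  exact Over.w m

/-- The slice as a class on the base change. -/
noncomputable def slice (c : Pic A.left) (y : Over.mk σ ⟶ A) : Pic ((Over.pullback σ).obj A).left := pl (shr y) (box c)

theorem pull_slice (c : Pic A.left) (y : Over.mk σ ⟶ A) {V : Scheme.{u}} {a : V ⟶ Spec (CommRingCat.of K)}
    (m : Over.mk a ⟶ (Over.pullback σ).obj A) :
    pull m.left (slice σ c y) = pl (dn rfl m) c *
      (pl (dn rfl m * ((Over.homMk a rfl : Over.mk (a ≫ σ) ⟶ Over.mk σ) ≫ y)⁻¹) c)⁻¹ := by
  have h1 : pull m.left (slice σ c y) = pl (toTens σ m) (pl (shr y) (box c)) := rfl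
  rw [h1, pl_shr_box, map_mul, map_inv, ← pl_comp, ← pl_comp, MonObj.comp_mul, GrpObj.comp_inv, toTens_fst,
    ← Category.assoc, toTens_snd]

theorem add_slice (c : Pic A.left) (y : Over.mk σ ⟶ A) : Add (A := (Over.pullback σ).obj A) (slice σ c y) := by
  let AK : Over (Spec (CommRingCat.of K)) := (Over.pullback σ).obj A
  change pull (μ[AK]).left (slice σ c y) = pull (fst AK AK).left (slice σ c y) * pull (snd AK AK).left (slice σ c y)
  let a : (AK ⊗ AK).left ⟶ Spec (CommRingCat.of K) := (AK ⊗ AK).hom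
  let m1 : Over.mk a ⟶ AK := fst AK AK
  let m2 : Over.mk a ⟶ AK := snd AK AK
  have h3 : μ[AK] = (m1 * m2 : Over.mk a ⟶ AK) := ConvPts.mu_eq
  rw [h3]
  have e1 := pull_slice σ c y m1
  have e2 := pull_slice σ c y m2
  have e3 := pull_slice σ c y (m1 * m2)
  rw [show pull (m1 * m2).left (slice σ c y) = _ from e3]
  rw [show pull (fst AK AK).left (slice σ c y) = _ from e1]
  rw [show pull (snd AK AK).left (slice σ c y) = _ from e2]
  rw [show dn rfl (m1 * m2) = dn rfl m1 * dn rfl m2 from dn_mul rfl m1 m2]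
  generalize hw : ((Over.homMk a rfl : Over.mk (a ≫ σ) ⟶ Over.mk σ) ≫ y)⁻¹ = w
  have hw1 : pl w c = 1 := by
    rw [← hw, ← GrpObj.comp_inv, pl_comp, pl_spec_local σ, map_one]
  have h4 := cube c (dn rfl m1 : Over.mk (a ≫ σ) ⟶ A) (dn rfl m2) w
  rw [hw1, mul_one] at h4
  generalize pl (dn rfl m1 * dn rfl m2 * w) c = p at h4 ⊢
  generalize pl (dn rfl m1 * dn rfl m2) c = q at h4 ⊢
  generalize pl (dn rfl m1 * w) c = r at h4 ⊢
  generalize pl (dn rfl m2 * w) c = s at h4 ⊢
  generalize pl (dn rfl m1) c = t at h4 ⊢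
  generalize pl (dn rfl m2) c = v at h4 ⊢
  exact aux_group h4

/-- The nontrivial slices have no cohomology. -/
theorem van_slice (c : Pic A.left) (y : Over.mk σ ⟶ A) (hne : pl (shr y) (box c) ≠ 1) (n : ℕ) :
    K524.Kun.Van (pl (shr y) (box c)) n := by
  have i1 : IsProper ((Over.pullback σ).obj A).hom := by
    change IsProper (pullback.snd A.hom σ)
    infer_instance
  have i2 : GeometricallyIntegral ((Over.pullback σ).obj A).hom := by
    change GeometricallyIntegral (pullback.snd A.hom σ)
    infer_instance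
  exact K524.PicZeroVan.van (A := (Over.pullback σ).obj A) (add_slice σ c y) hne n

end K529.ConvAdd
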