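import Groth.Agent.AbVar.K529.ConvMain
import Groth.Agent.AbVar.K524.PicInv
import Groth.Agent.PerfC.RpushAffine
import Groth.Agent.PerfC.RpushSingle
import Groth.Agent.Sga5.H855.ConeH

/-!
# Convolution of `L` and `[-1]^* L⁻¹` in `D(O_A)`

`Rm_* (p₁^* L ⊗ p₂^* [-1]^* L⁻¹) ≅ Ri_* M [-g]` for `L` nondegenerate and `M` invertible on `K(L)`, over any field.
-/

set_option autoImplicit false
universe u

open CategoryTheory CategoryTheory.Limits MonoidalCategory CartesianMonoidalCategory AlgebraicGeometry TopologicalSpace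
open scoped MonObj GrpObj
open Groth.Agent Groth.Agent.Grpsch.PicGrp Groth.Agent.Grpsch.Cube
attribute [local instance] HasDerivedCategory.standard

namespace K529.ConvD

open ConvPts ConvMain

/-- `Ri_*` of a quasi-coherent module for an affine morphism. -/
theorem rpush_affine {Z Y : Scheme.{u}} (i : Z ⟶ Y) [IsAffineHom i] [DCoh.HasRpush i] (M : Z.Modules)
    (hM : Coh.IsQCoh M) :
    Nonempty ((DCoh.Rpush i).obj (DCoh.inD Z M) ≅ DCoh.inD Y ((Scheme.Modules.pushforward i).obj M)) := by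
  have hinj : HasInjectiveResolutions Z.Modules := Dcoh.DerSch.hasInjectiveResolutions Z
  obtain ⟨e⟩ := Sga5.H855.ConeH.exists_iso_single ((DCoh.Rpush i).obj (DCoh.inD Z M)) 0 (fun p hp => by
    rcases lt_or_gt_of_ne hp with h | h
    · exact PerfC.RpushSingle.isZero_of_neg i M p h
    · obtain ⟨n, rfl⟩ := Int.eq_ofNat_of_zero_le h.le
      exact (PerfC.RpushAffine.isZero_Rpush i M hM n (by omega)).of_iso (PerfC.RpushSingle.iso i n M))
  exact ⟨e ≪≫ (DerivedCategory.singleFunctor Y.Modules 0).mapIso (PerfC.RpushSingle.iso i 0 M ≪≫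
    (Scheme.Modules.pushforward i).rightDerivedZeroIsoSelf.app M)⟩

variable {k : Type u} [Field k] {A : Over (Spec (CommRingCat.of k))} [GrpObj A]
  [IsProper A.hom] [GeometricallyIntegral A.hom]

theorem nonempty_iso {L : A.left.Modules} (hL : PicF.IsInvertible L)
    {K : Over (Spec (CommRingCat.of k))} {i : K ⟶ A} (hK : ThetaGrp.IsKL A L i) [IsFinite K.hom]
    {E : (A ⊗ A).left.Modules} (hE : PicF.IsInvertible E) (hEc : mk E hE = box (mk L hL)) (g : ℕ)
    (hg : topologicalKrullDim A.left = g) {M : K.left.Modules} (hM : PicF.IsInvertible M)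
    [DCoh.HasRpush (μ[A]).left] [DCoh.HasRpush i.left] :
    Nonempty ((DCoh.Rpush (μ[A]).left).obj (DCoh.inD (A ⊗ A).left E) ≅
      (shiftFunctor (DCoh.D A.left) (-(g : ℤ))).obj ((DCoh.Rpush i.left).obj (DCoh.inD K.left M))) := by
  have hinj : HasInjectiveResolutions (A ⊗ A).left.Modules := Dcoh.DerSch.hasInjectiveResolutions _
  have hcl := hK.closed
  obtain ⟨e1⟩ := Sga5.H855.ConeH.exists_iso_single ((DCoh.Rpush (μ[A]).left).obj (DCoh.inD (A ⊗ A).left E)) (g : ℤ)
    (fun p hp => by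
      rcases lt_or_ge p 0 with h | h
      · exact PerfC.RpushSingle.isZero_of_neg _ E p h
      · obtain ⟨n, rfl⟩ := Int.eq_ofNat_of_zero_le h
        exact (isZero_Rpush hL hK hE hEc g hg n (by omega)).of_iso (PerfC.RpushSingle.iso _ n E))
  obtain ⟨e2⟩ := ConvMain.nonempty_iso hL hK hE hEc g hg hM
  obtain ⟨e3⟩ := rpush_affine i.left M (K524.Kun.isQCoh_of_isInvertible hM)
  refine ⟨e1 ≪≫ (DerivedCategory.singleFunctor A.left.Modules (g : ℤ)).mapIso
    (PerfC.RpushSingle.iso (μ[A]).left g E ≪≫ e2) ≪≫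
    ((((DerivedCategory.singleFunctors A.left.Modules).shiftIso (-(g : ℤ)) (g : ℤ) 0 (by omega)).app
      ((Scheme.Modules.pushforward i.left).obj M)).symm) ≪≫
    (shiftFunctor (DCoh.D A.left) (-(g : ℤ))).mapIso e3.symm⟩

omit [IsProper A.hom] [GeometricallyIntegral A.hom] in
theorem isInvertible_and_mk {L L' : A.left.Modules} (hL : PicF.IsInvertible L)
    (hL' : Nonempty (CohB1.tensorMod L L' ≅ Coh.structureModule A.left)) :
    ∃ hE : PicF.IsInvertible (CohB1.tensorMod ((Scheme.Modules.pullback (fst A A).left).obj L)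
          ((Scheme.Modules.pullback (snd A A ≫ (𝟙 A)⁻¹).left).obj L')), mk _ hE = box (mk L hL) := by
  obtain ⟨e⟩ := hL'
  have h1 := K524.PicInv.isInvertible_of_inv hL e
  have h2 := Groth.Agent.Fdesc.LocGen.isInvertible_pullback (fst A A).left hL
  have h3 := Groth.Agent.Fdesc.LocGen.isInvertible_pullback (snd A A ≫ (𝟙 A)⁻¹).left h1
  refine ⟨Groth.Agent.Fdesc.LocGen.isInvertible_tensorMod h2 h3, ?_⟩
  have h4 : snd A A ≫ (𝟙 A)⁻¹ = (snd A A)⁻¹ := by rw [GrpObj.comp_inv, Category.comp_id]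
  rw [← mk_mul_mk h2 h3, ← pull_mk _ hL, ← pull_mk _ h1, K524.PicInv.mk_inv_of hL h1 e, map_inv, h4]
  rfl

end K529.ConvD
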