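import Groth.Agent.AbVar.K529.TopMain
import Groth.Agent.Ega1.ClosedKill
import Groth.Agent.Fdesc.LocGen

/-!
# The top direct image, global form

With the hypotheses of `TopMain.main_local` at every point of a discrete closed subscheme `j : Z ⟶ Y`:
`R^g f_* E ≅ j_* M` for every invertible `M` on `Z`.
-/

set_option autoImplicit false
universe u

open AlgebraicGeometry CategoryTheory CategoryTheory.Limits RingTheory.Sequence TopologicalSpace
open Groth.Agent Groth.Agent.Fdesc.LocGen Groth.Agent.Ega1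
open Groth.Agent.Flat2F.LocBas Groth.Agent.Flat2F.ImmGlue Groth.Agent.Flat2F.DescLocal

namespace K529.TopGlob

section Discrete

variable {Z : Scheme.{u}}

theorem subsingleton_bot (M : Z.Modules) : Subsingleton Γ(M, (⊥ : Z.Opens)) :=
  ⟨fun _ _ => res_ext M (ι := PEmpty.{1}) (V := ⊥) (fun i => i.elim) (fun i => i.elim) bot_le (fun i => i.elim)⟩

theorem subsingleton_bot_ring : Subsingleton Γ(Z, (⊥ : Z.Opens)) :=
  ⟨fun _ _ => ores_ext (ι := PEmpty.{1}) (V := ⊥) (fun i => i.elim) (fun i => i.elim) bot_le (fun i => i.elim)⟩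

theorem le_point {W V : Z.Opens} {z : Z} (hW : ∀ w ∈ W, w = z) (h : V ≤ W) : V = ⊥ ∨ V = W := by
  by_cases hV : ∃ v, v ∈ V
  · right
    obtain ⟨v, hv⟩ := hV
    refine le_antisymm h fun w hw => ?_
    rw [hW w hw, ← hW v (h hv)]
    exact hv
  · left
    push Not at hV
    exact Opens.ext (Set.eq_empty_of_forall_notMem hV)

theorem isGen_of_point {M : Z.Modules} {W : Z.Opens} {z : Z} (hW : ∀ w ∈ W, w = z) (e : Γ(M, W))
    (he : Function.Bijective (fun a : Γ(Z, W) => a • e)) : IsGen e := by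
  intro V hV
  rcases le_point hW hV with rfl | rfl
  · have h1 := subsingleton_bot M
    have h2 := subsingleton_bot_ring (Z := Z)
    exact ⟨fun a b _ => Subsingleton.elim a b, fun b => ⟨0, Subsingleton.elim _ _⟩⟩
  · simpa using he

/-- The one point open. -/
def pt [DiscreteTopology Z] (z : Z) : Z.Opens := ⟨{z}, isOpen_discrete _⟩

theorem pt_le [DiscreteTopology Z] {z : Z} {W : Z.Opens} (h : z ∈ W) : pt z ≤ W := by
  intro w hw
  have : w = z := hw
  rw [this]
  exact h

/-- A module on a discrete scheme with local generators is isomorphic to the structure sheaf. -/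
theorem nonempty_iso_of_gens [DiscreteTopology Z] (M : Z.Modules)
    (h : ∀ z : Z, ∃ (W : Z.Opens) (_ : z ∈ W) (e : Γ(M, W)), IsGen e) :
    Nonempty (Coh.structureModule Z ≅ M) := by
  classical
  choose W hz e he using h
  have hcov : (⊤ : Z.Opens) ≤ ⨆ z : Z, pt z := fun z _ => Opens.mem_iSup.mpr ⟨z, rfl⟩
  obtain ⟨t, ht⟩ := res_glue M (V := ⊤) (fun z : Z => pt z) (fun _ => le_top) hcov
    (fun z => res M (pt_le (hz z)) (e z)) (by
      intro z z'
      by_cases hzz : z = z'
      · subst hzz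
        rfl
      · have h1 : pt z ⊓ pt z' = ⊥ := by
          ext w
          constructor
          · rintro ⟨h1, h2⟩
            exact hzz ((show w = z from h1).symm.trans (show w = z' from h2))
          · intro h1
            exact h1.elim
        have h2 : Subsingleton Γ(M, pt z ⊓ pt z') := by
          rw [h1]
          exact subsingleton_bot M
        exact Subsingleton.elim _ _)
  have hgen : IsGen t := by
    refine IsGen.of_cover (fun z : Z => pt z) (fun _ => le_top) hcov fun z => ?_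
    rw [ht z]
    exact (he z).res _
  have hiso : IsIso (homOf t) := by
    rw [isIso_iff_isGen, sec_homOf]
    exact hgen.res _
  exact ⟨asIso (homOf t)⟩

theorem nonempty_iso_of_isInvertible [DiscreteTopology Z] {M : Z.Modules} (hM : PicF.IsInvertible M) :
    Nonempty (Coh.structureModule Z ≅ M) :=
  nonempty_iso_of_gens M fun z => by
    obtain ⟨U, e, hx, he⟩ := (isInvertible_iff M).mp hM z
    exact ⟨U, hx, e, he⟩

end Discrete

section Main

variable {X Y Z : Scheme.{u}} (f : X ⟶ Y) [Flat f] [IsProper f] [LocallyOfFinitePresentation f]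
  [IsLocallyNoetherian Y] [HasInjectiveResolutions X.Modules]
  {E : X.Modules} (hE : PicF.IsInvertible E) (j : Z ⟶ Y) (g : ℕ)
  (hacyc : ∀ y ∉ Set.range j.base, ∀ p, CohIII.fiberRank f E p y = 0)
  (htop : ∀ y p, g < p → CohIII.fiberRank f E p y = 0)
  (hreg : ∀ y ∈ Set.range j.base, K524.FinSupp.HasReg (Y.presheaf.stalk y) g)

/-- Small affine neighbourhoods. -/
theorem exists_affine [IsClosedImmersion j] [DiscreteTopology Z] {U : Y.Opens} {y : Y} (hy : y ∈ U) :
    ∃ V : Y.Opens, IsAffineOpen V ∧ y ∈ V ∧ V ≤ U ∧ ∀ y' ∈ V, y' ∈ Set.range j.base → y' = y := by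
  have hcl : IsClosed (j.base '' {z : Z | j.base z ≠ y}) :=
    j.isClosedEmbedding.isClosedMap _ (isClosed_discrete _)
  obtain ⟨_, ⟨V, hV, rfl⟩, hyV, hVU⟩ := Y.isBasis_affineOpens.exists_subset_of_mem_open
    (show y ∈ U ⊓ ⟨(j.base '' {z : Z | j.base z ≠ y})ᶜ, hcl.isOpen_compl⟩ from ⟨hy, by
      rintro ⟨z, hz, hz'⟩
      exact hz hz'⟩) (U ⊓ ⟨(j.base '' {z : Z | j.base z ≠ y})ᶜ, hcl.isOpen_compl⟩).2
  refine ⟨V, hV, hyV, fun a ha => (hVU ha).1, fun y' hy' hr => ?_⟩
  obtain ⟨z, rfl⟩ := hr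
  by_contra hne
  exact (hVU hy').2 ⟨z, hne, rfl⟩

theorem isClosed_pt [IsClosedImmersion j] [DiscreteTopology Z] {y : Y} (hy : y ∈ Set.range j.base) :
    IsClosed ({y} : Set Y) := by
  obtain ⟨z, rfl⟩ := hy
  rw [← Set.image_singleton]
  exact j.isClosedEmbedding.isClosedMap _ (isClosed_discrete _)

include hE hacyc htop hreg in
theorem kills (hO : UO f) [IsClosedImmersion j] [DiscreteTopology Z]
    (hZ : ∀ (B : CommRingCat.{u}) [IsLocalRing B] (t : Spec B ⟶ Y), (∃ t', t' ≫ j = t) ↔ CP f E t)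
    (hone : ∀ y ∈ Set.range j.base, CohIII.fiberRank f E g y = 1) :
    Ega1.ClosedKill.Kills j.ker ((Coh.Rpush f g).obj E) := by
  intro U a ha s
  rw [Scheme.Hom.ker_apply, RingHom.mem_ker] at ha
  choose V hV hyV hVU hVpt using fun y : (U : Y.Opens) => exists_affine j y.2
  refine res_ext _ (fun y : (U : Y.Opens) => V y) hVU (fun y hy => Opens.mem_iSup.mpr ⟨⟨y, hy⟩, hyV ⟨y, hy⟩⟩)
    fun y => ?_
  rw [map_zero, res_smul]
  by_cases hy : y.1 ∈ Set.range j.base
  · obtain ⟨e⟩ := TopMain.main_local f hE j g hacyc htop hreg hO hZ (V y) (hV y) ⟨y.1, hyV y⟩ hy (isClosed_pt j hy)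
      (hVpt y) (hone y.1 hy)
    apply e.injective
    rw [map_smul, map_zero]
    have h1 : (ores (hVU y) a : Γ(Y, V y)) ∈ RingHom.ker (j.app (V y)).hom := by
      rw [RingHom.mem_ker]
      have h2 := ConcreteCategory.congr_hom (j.naturality (homOfLE (hVU y)).op) a
      have h3 : (j.app (V y)).hom (ores (hVU y) a) =
        (Z.presheaf.map ((Opens.map j.base).map (homOfLE (hVU y))).op) ((j.app (U : Y.Opens)) a) := h2
      rw [h3]
      have h4 : (j.app (U : Y.Opens)) a = 0 := ha
      rw [h4, map_zero]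
    generalize e (res _ (hVU y) s) = m
    obtain ⟨b, rfl⟩ := Ideal.Quotient.mk_surjective m
    rw [← Ideal.Quotient.mk_eq_mk, ← Submodule.Quotient.mk_smul, Submodule.Quotient.mk_eq_zero]
    exact Ideal.mul_mem_right _ _ h1
  · have h1 : Subsingleton Γ((Coh.Rpush f g).obj E, V y) := by
      refine K524.FinSupp.subsingleton_sections_of_fiberRank f E (TopMain.isCoh_of_isInvertible hE)
        (Groth.Agent.Grpsch.CubeClosed.isFlatOver_of_isInvertible f hE) (V y) (hV y) g fun y' hy' => ?_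
      refine hacyc y' (fun hr => ?_) g
      exact hy (hVpt y y' hy' hr ▸ hr)
    exact Subsingleton.elim _ _

include hE hacyc htop hreg in
/-- The top direct image. -/
theorem main (hO : UO f) [IsClosedImmersion j] [DiscreteTopology Z]
    (hZ : ∀ (B : CommRingCat.{u}) [IsLocalRing B] (t : Spec B ⟶ Y), (∃ t', t' ≫ j = t) ↔ CP f E t)
    (hone : ∀ y ∈ Set.range j.base, CohIII.fiberRank f E g y = 1) {M : Z.Modules} (hM : PicF.IsInvertible M) :
    Nonempty ((Coh.Rpush f g).obj E ≅ (Scheme.Modules.pushforward j).obj M) := by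
  have hk := kills f hE j g hacyc htop hreg hO hZ hone
  have hu := hk.isIso_unit j
  let Q := (Coh.Rpush f g).obj E
  let M' : Z.Modules := (Scheme.Modules.pullback j).obj Q
  let i : Q ≅ (Scheme.Modules.pushforward j).obj M' :=
    asIso ((Scheme.Modules.pullbackPushforwardAdjunction j).unit.app Q)
  have hgen : ∀ z : Z, ∃ (W : Z.Opens) (_ : z ∈ W) (e : Γ(M', W)), IsGen e := by
    intro z
    obtain ⟨V, hV, hyV, -, hVpt⟩ := exists_affine j (U := ⊤) (y := j.base z) trivial
    obtain ⟨e⟩ := TopMain.main_local f hE j g hacyc htop hreg hO hZ V hV ⟨j.base z, hyV⟩ ⟨z, rfl⟩ (isClosed_pt j ⟨z, rfl⟩)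
      hVpt (hone _ ⟨z, rfl⟩)
    let s0 : Γ(Q, V) := e.symm (Ideal.Quotient.mk _ 1)
    let s : Γ(M', j ⁻¹ᵁ V) := (i.hom.app V : Γ(Q, V) ⟶ _) s0
    have hs : ∀ a : Γ(Y, V), (j.app V a : Γ(Z, j ⁻¹ᵁ V)) • s = i.hom.app V (a • s0) := by
      intro a
      rw [Scheme.Modules.Hom.app_smul]
      exact (ModGerm.pushforward_smul M' j V a s).symm
    have hbij : Function.Bijective (i.hom.app V) := ConcreteCategory.bijective_of_isIso (i.hom.app V)
    have hsurj : Function.Surjective (j.app V) := j.app_surjective V hV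
    refine ⟨j ⁻¹ᵁ V, hyV, s, isGen_of_point (z := z) (fun w hw => ?_) s ?_⟩
    · apply j.isClosedEmbedding.injective
      exact hVpt _ hw ⟨w, rfl⟩
    · constructor
      · intro a b hab
        obtain ⟨a', rfl⟩ := hsurj a
        obtain ⟨b', rfl⟩ := hsurj b
        have h1 : (j.app V a' : Γ(Z, j ⁻¹ᵁ V)) • s = (j.app V b' : Γ(Z, j ⁻¹ᵁ V)) • s := hab
        rw [hs, hs] at h1
        have h2 := congrArg e (hbij.1 h1)
        rw [map_smul, map_smul, LinearEquiv.apply_symm_apply] at h2
        have h3 : Ideal.Quotient.mk (RingHom.ker (j.app V).hom) a' = Ideal.Quotient.mk (RingHom.ker (j.app V).hom) b' := by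
          rw [← mul_one a', ← mul_one b', map_mul, map_mul]
          exact h2
        have h4 := Ideal.Quotient.eq.mp h3
        rw [RingHom.mem_ker, map_sub, sub_eq_zero] at h4
        exact h4
      · intro m
        obtain ⟨m', rfl⟩ := hbij.2 m
        obtain ⟨a, ha⟩ := Ideal.Quotient.mk_surjective (e m')
        refine ⟨j.app V a, (hs a).trans (congrArg (i.hom.app V) (e.injective ?_))⟩
        rw [map_smul, LinearEquiv.apply_symm_apply, ← ha]
        change Ideal.Quotient.mk _ (a * 1) = _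
        rw [mul_one]
  obtain ⟨e1⟩ := nonempty_iso_of_gens M' hgen
  obtain ⟨e2⟩ := nonempty_iso_of_isInvertible hM
  exact ⟨i ≪≫ (Scheme.Modules.pushforward j).mapIso (e1.symm ≪≫ e2)⟩

end Main

end K529.TopGlob
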