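import Groth.Agent.AbVar.K529.ConvFibA
import Groth.Agent.AbVar.K529.TopGlob
import Groth.Agent.AbVar.K524.Bc
import Groth.Agent.AbVar.K504.AnyField

/-!
# Convolution of `L` and `[-1]^* L⁻¹`: Betti numbers of the fibres of the group law

For `E` on `A × A` with class `box c`, `c` the class of `L`, and `K = K(L)`: the fibre ranks of `E` along `m` vanish
outside `K` and above `g = dim A`, and the `g`-th one is `1` on `K`.
-/

set_option autoImplicit false
universe u

open CategoryTheory CategoryTheory.Limits MonoidalCategory CartesianMonoidalCategory AlgebraicGeometry TopologicalSpace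
open scoped MonObj GrpObj
open Groth.Agent Groth.Agent.Grpsch.PicGrp Groth.Agent.Grpsch.Cube

attribute [local instance] Functor.grpObjObj

namespace K529.ConvFib

open ConvPts ConvAdd

variable {k : Type u} [Field k] {A : Over (Spec (CommRingCat.of k))} [GrpObj A]
  [IsProper A.hom] [GeometricallyIntegral A.hom]

section Fibre

variable (y : A.left)

/-- The structure morphism of the residue field. -/
noncomputable def σ : Spec (CommRingCat.of (A.left.residueField y)) ⟶ Spec (CommRingCat.of k) :=
  A.left.fromSpecResidueField y ≫ A.hom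

/-- The tautological point. -/
noncomputable def pt : Over.mk (σ y) ⟶ A := Over.homMk (A.left.fromSpecResidueField y) rfl

/-- The model of the fibre. -/
noncomputable abbrev Fib : Scheme.{u} := (A ⊗ Over.mk (σ y)).left

/-- Its structure morphism. -/
noncomputable abbrev str : Fib y ⟶ Spec (CommRingCat.of (A.left.residueField y)) := (snd A (Over.mk (σ y))).left

omit [IsProper A.hom] [GeometricallyIntegral A.hom] in
theorem isPullback_fib : IsPullback (shr (pt y)).left (str y) (μ[A]).left (A.left.fromSpecResidueField y) :=
  IsPullback.map (Over.forget _) (isPullback_shr (pt y))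

omit [GrpObj A] [GeometricallyIntegral A.hom] in
theorem isProper_str : IsProper (str y) := by
  change IsProper (pullback.snd A.hom (σ y))
  infer_instance

omit [GeometricallyIntegral A.hom] in
theorem fiberRank_mu {E : (A ⊗ A).left.Modules} (hE : PicF.IsInvertible E) (n : ℕ) :
    letI : (Fib y).Over (Spec (CommRingCat.of (A.left.residueField y))) := ⟨str y⟩
    CohIII.fiberRank (μ[A]).left E n y = Module.finrank (A.left.residueField y)
      (Coh.HH (Fib y) ((Scheme.Modules.pullback (shr (pt y)).left).obj E) n) := by
  have h1 := isProper_str y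
  exact fiberRank_eq (μ[A]).left y (isPullback_fib y) (K524.Kun.isQCoh_of_isInvertible hE) n

omit [GeometricallyIntegral A.hom] in
/-- Vanishing of the class of the fibre in a degree gives vanishing of the fibre rank. -/
theorem fiberRank_eq_zero {E : (A ⊗ A).left.Modules} (hE : PicF.IsInvertible E) (n : ℕ)
    (h : K524.Kun.Van (pl (shr (pt y)) (mk E hE)) n) : CohIII.fiberRank (μ[A]).left E n y = 0 := by
  let iX : (Fib y).Over (Spec (CommRingCat.of (A.left.residueField y))) := ⟨str y⟩
  have h1 : K524.Kun.Van (pull (shr (pt y)).left (mk E hE)) n := h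
  rw [pull_mk, K524.Kun.van_mk] at h1
  exact (fiberRank_mu y hE n).trans Module.finrank_zero_of_subsingleton

omit [GrpObj A] [GeometricallyIntegral A.hom] in
theorem dim_fib : topologicalKrullDim (Fib y) = topologicalKrullDim A.left :=
  Etcore.DimBaseChange.topologicalKrullDim_eq (Field.toIsField k) (Field.toIsField (A.left.residueField y)) A.hom
    (str y) (fst A (Over.mk (σ y))).left (σ y) (IsPullback.of_hasPullback A.hom (σ y))

omit [GeometricallyIntegral A.hom] in
theorem fiberRank_top {E : (A ⊗ A).left.Modules} (hE : PicF.IsInvertible E) (g : ℕ)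
    (hg : topologicalKrullDim A.left = g) (n : ℕ) (hn : g < n) : CohIII.fiberRank (μ[A]).left E n y = 0 := by
  have h1 := isProper_str y
  refine fiberRank_eq_zero y hE n (K524.Key.van_of_dim (str y) (g := g) ?_ _ n hn)
  rw [dim_fib, hg]

theorem fiberRank_acyc {L : A.left.Modules} (hL : PicF.IsInvertible L)
    {K : Over (Spec (CommRingCat.of k))} {i : K ⟶ A} (hK : ThetaGrp.IsKL A L i) {E : (A ⊗ A).left.Modules}
    (hE : PicF.IsInvertible E) (hEc : mk E hE = box (mk L hL)) (hy : y ∉ Set.range i.left.base) (n : ℕ) :
    CohIII.fiberRank (μ[A]).left E n y = 0 := by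
  refine fiberRank_eq_zero y hE n ?_
  rw [hEc]
  refine van_slice (σ y) _ (pt y) (fun h => hy ?_) n
  obtain ⟨z, hz⟩ := (pl_shr_box_eq_one_iff hL hK (B := CommRingCat.of (A.left.residueField y)) (σ y) (pt y)).mp h
  obtain ⟨x⟩ : Nonempty (Spec (CommRingCat.of (A.left.residueField y))) := inferInstance
  refine ⟨z.left.base x, ?_⟩
  have h1 : z.left ≫ i.left = A.left.fromSpecResidueField y := congrArg Over.Hom.left hz
  have h2 : i.left.base (z.left.base x) = (A.left.fromSpecResidueField y).base x := by
    rw [← h1]
    rfl
  exact h2.trans (Scheme.fromSpecResidueField_apply y x)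

end Fibre

end K529.ConvFib
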