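import Groth.Agent.AbVar.K504.AnyField

/-!
# The top cohomology of the structure sheaf of a base changed abelian variety
-/

set_option autoImplicit false
universe u

open CategoryTheory CategoryTheory.Limits MonoidalCategory CartesianMonoidalCategory AlgebraicGeometry TopologicalSpace
open scoped MonObj GrpObj
open Groth.Agent

namespace K529.ConvFib

theorem finrank_O_pb {k K : Type u} [Field k] [Field K] (A : Over (Spec (CommRingCat.of k))) [GrpObj A] [IsProper A.hom]
    [GeometricallyIntegral A.hom] (σ : Spec (CommRingCat.of K) ⟶ Spec (CommRingCat.of k)) (g : ℕ)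
    (hg : topologicalKrullDim ↥(pullback A.hom σ) = g) :
    letI : (pullback A.hom σ).Over (Spec (CommRingCat.of K)) := ⟨pullback.snd A.hom σ⟩
    Module.finrank K (Coh.HH (pullback A.hom σ) (Coh.structureModule _) g) = 1 := by
  let iX : (pullback A.hom σ).Over (Spec (CommRingCat.of K)) := ⟨pullback.snd A.hom σ⟩
  let i0 : GrpObj (Over.mk A.hom) := ‹GrpObj A›
  let i3 : GrpObj (Over.mk (pullback A.hom σ ↘ Spec (CommRingCat.of K))) := Over.grpObjMkPullbackSnd
  have i1 : IsProper (pullback A.hom σ ↘ Spec (CommRingCat.of K)) :=
    inferInstanceAs (IsProper (pullback.snd A.hom σ))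
  have i2 : GeometricallyIntegral (pullback A.hom σ ↘ Spec (CommRingCat.of K)) :=
    inferInstanceAs (GeometricallyIntegral (pullback.snd A.hom σ))
  exact (K504.AnyField.finrank_O K (pullback A.hom σ) g hg g).trans (Nat.choose_self g)

end K529.ConvFib
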