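import Groth.Agent.AbVar.K529.ConvFib
import Groth.Agent.AbVar.K529.ConvO

/-!
# Convolution of `L` and `[-1]^* L⁻¹`: the top fibre rank on `K(L)`
-/

set_option autoImplicit false
universe u

open CategoryTheory CategoryTheory.Limits MonoidalCategory CartesianMonoidalCategory AlgebraicGeometry TopologicalSpace
open scoped MonObj GrpObj
open Groth.Agent Groth.Agent.Grpsch.PicGrp Groth.Agent.Grpsch.Cube

attribute [local instance] Functor.grpObjObj

namespace K529.ConvFib

open ConvPts ConvAdd

variable {k : Type u} [Field k] {A : Over (Spec (CommRingCat.of k))} [GrpObj A]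
  [IsProper A.hom] [GeometricallyIntegral A.hom]

section Fibre

variable (y : A.left)

/-- The top cohomology of the structure sheaf of the fibre. -/
theorem finrank_O_fib (g : ℕ) (hg : topologicalKrullDim A.left = g) :
    letI : (Fib y).Over (Spec (CommRingCat.of (A.left.residueField y))) := ⟨str y⟩
    Module.finrank (A.left.residueField y) (Coh.HH (Fib y) (Coh.structureModule (Fib y)) g) = 1 :=
  finrank_O_pb (K := A.left.residueField y) A (σ y) g ((dim_fib y).trans hg)

/-- The class of the fibre over a point of `K(L)` is trivial. -/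
theorem exists_iso_fib {L : A.left.Modules} (hL : PicF.IsInvertible L)
    {K : Over (Spec (CommRingCat.of k))} {i : K ⟶ A} (hK : ThetaGrp.IsKL A L i) {E : (A ⊗ A).left.Modules}
    (hE : PicF.IsInvertible E) (hEc : mk E hE = box (mk L hL)) (hy : y ∈ Set.range i.left.base) :
    Nonempty ((Scheme.Modules.pullback (shr (pt y)).left).obj E ≅ Coh.structureModule (Fib y)) := by
  have hcl := hK.closed
  have h1 : pull (shr (pt y)).left (mk E hE) = 1 := by
    rw [hEc]
    refine (pl_shr_box_eq_one_iff hL hK (B := CommRingCat.of (A.left.residueField y)) (σ y) (pt y)).mpr ?_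
    obtain ⟨t', ht'⟩ := TopMain.exists_factor i.left (A.left.fromSpecResidueField y) (fun x => by
      rw [Scheme.fromSpecResidueField_apply]
      exact hy)
    refine ⟨Over.homMk t' ?_, ?_⟩
    · rw [← Over.w i, reassoc_of% ht']
      rfl
    · ext1
      exact ht'
  rw [pull_mk, mk_eq_one_iff] at h1
  exact h1

theorem fiberRank_one {L : A.left.Modules} (hL : PicF.IsInvertible L)
    {K : Over (Spec (CommRingCat.of k))} {i : K ⟶ A} (hK : ThetaGrp.IsKL A L i) {E : (A ⊗ A).left.Modules}
    (hE : PicF.IsInvertible E) (hEc : mk E hE = box (mk L hL)) (hy : y ∈ Set.range i.left.base) (g : ℕ)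
    (hg : topologicalKrullDim A.left = g) : CohIII.fiberRank (μ[A]).left E g y = 1 := by
  obtain ⟨e⟩ := exists_iso_fib y hL hK hE hEc hy
  let iX : (Fib y).Over (Spec (CommRingCat.of (A.left.residueField y))) := ⟨str y⟩
  exact (fiberRank_mu y hE g).trans
    ((CurvesA.HHMap.equivOver (A.left.residueField y) (X := Fib y) e g).finrank_eq.trans (finrank_O_fib y g hg))

end Fibre

end K529.ConvFib
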