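import Groth.Agent.AbVar.K529.ConvAdd
import Groth.Agent.AbVar.K524.Bc

/-!
# Fibre ranks, computed by any model of the fibre
-/

set_option autoImplicit false
universe u

open CategoryTheory CategoryTheory.Limits MonoidalCategory CartesianMonoidalCategory AlgebraicGeometry TopologicalSpace
open scoped MonObj GrpObj
open Groth.Agent Groth.Agent.Grpsch.PicGrp Groth.Agent.Grpsch.Cube

attribute [local instance] Functor.grpObjObj

namespace K529.ConvFib

open ConvPts ConvAdd

/-- The fibre rank, computed by any model of the fibre. -/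
theorem fiberRank_eq {X Y X' : Scheme.{u}} (f : X ⟶ Y) (y : Y) {a : X' ⟶ X} {p : X' ⟶ Spec (Y.residueField y)}
    (H : IsPullback a p f (Y.fromSpecResidueField y)) [QuasiCompact p] [QuasiSeparated p] {F : X.Modules}
    (hF : Coh.IsQCoh F) (n : ℕ) :
    letI : X'.Over (Spec (CommRingCat.of (Y.residueField y))) := ⟨p⟩
    CohIII.fiberRank f F n y =
      Module.finrank (Y.residueField y) (Coh.HH X' ((Scheme.Modules.pullback a).obj F) n) := by
  let iX : X'.Over (Spec (CommRingCat.of (Y.residueField y))) := ⟨p⟩
  let iF : (f.fiber y).Over (Spec (CommRingCat.of (Y.residueField y))) := ⟨f.fiberToSpecResidueField y⟩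
  have h1 : QuasiCompact (X' ↘ Spec (CommRingCat.of (Y.residueField y))) := inferInstanceAs (QuasiCompact p)
  have h2 : QuasiSeparated (X' ↘ Spec (CommRingCat.of (Y.residueField y))) := inferInstanceAs (QuasiSeparated p)
  let H0 : IsPullback (f.fiberι y) (f.fiberToSpecResidueField y) f (Y.fromSpecResidueField y) :=
    IsPullback.of_hasPullback _ _
  let g : f.fiber y ≅ X' := H0.isoIsPullback _ _ H
  have hg1 : g.hom ≫ a = f.fiberι y := IsPullback.isoIsPullback_hom_fst _ _ H0 H
  have hg2 : g.hom ≫ p = f.fiberToSpecResidueField y := IsPullback.isoIsPullback_hom_snd _ _ H0 H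
  have hpb : IsPullback g.hom (f.fiber y ↘ Spec (CommRingCat.of (Y.residueField y)))
      (X' ↘ Spec (CommRingCat.of (Y.residueField y)))
      (Spec.map (CommRingCat.ofHom (algebraMap (Y.residueField y) (Y.residueField y)))) := by
    have h3 : Spec.map (CommRingCat.ofHom (algebraMap (Y.residueField y) (Y.residueField y))) =
      𝟙 (Spec (CommRingCat.of (Y.residueField y))) := Spec.map_id _
    rw [h3]
    exact IsPullback.of_horiz_isIso ⟨by rw [Category.comp_id]; exact hg2⟩
  have hq : Coh.IsQCoh ((Scheme.Modules.pullback a).obj F) := FormalA.PullbackQC.isQCoh_pullback a F hF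
  have h4 := K524.Num.finrank_baseChange (Y.residueField y) X' (Y.residueField y) (f.fiber y) g.hom hpb
    ((Scheme.Modules.pullback a).obj F) hq n
  refine Eq.trans ?_ h4
  exact (CurvesA.HHMap.equivOver (Y.residueField y) (X := f.fiber y)
    ((Scheme.Modules.pullbackComp g.hom a).app F ≪≫ (Scheme.Modules.pullbackCongr hg1).app F).symm n).finrank_eq

end K529.ConvFib
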