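import Groth.Agent.AbVar.K529.ConvFib1
import Groth.Agent.Grpsch.CubePush
import Mathlib.AlgebraicGeometry.Artinian

/-!
# Convolution of `L` and `[-1]^* L⁻¹` for a nondegenerate `L`, over any field

`R^p m_* (p₁^* L ⊗ p₂^* [-1]^* L⁻¹) = 0` for `p ≠ g` and `R^g m_*` is the direct image of the structure sheaf (or of any
invertible module) of `K(L)`.
-/

set_option autoImplicit false
universe u

open CategoryTheory CategoryTheory.Limits MonoidalCategory CartesianMonoidalCategory AlgebraicGeometry TopologicalSpace
open scoped MonObj GrpObj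
open Groth.Agent Groth.Agent.Grpsch.PicGrp Groth.Agent.Grpsch.Cube
open Groth.Agent.Flat2F.DescLocal

namespace K529.ConvMain

open ConvPts ConvAdd ConvFib

variable {k : Type u} [Field k] {A : Over (Spec (CommRingCat.of k))} [GrpObj A]

section Mu

theorem isIso_shr_id : IsIso (shr (𝟙 A)).left := by
  have h1 := IsPullback.map (Over.forget (Spec (CommRingCat.of k))) (isPullback_shr (𝟙 A))
  have h2 : IsPullback (shr (𝟙 A)).left (snd A A).left (μ[A]).left (𝟙 A : A ⟶ A).left := h1
  have h3 : IsIso (𝟙 A : A ⟶ A).left := by rw [Over.id_left]; infer_instance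
  exact h2.isIso_fst_of_isIso

/-- Properties of the second projection hold for the group law. -/
theorem of_snd (P : MorphismProperty Scheme.{u}) [P.RespectsIso] (h : P (snd A A).left) : P (μ[A]).left := by
  have h1 : (shr (𝟙 A)).left ≫ (μ[A]).left = (snd A A).left := by
    have h2 : shr (𝟙 A) ≫ μ[A] = snd A A ≫ 𝟙 A := (isPullback_shr (𝟙 A)).w
    rw [Category.comp_id] at h2
    rw [← Over.comp_left, h2]
  have h3 := isIso_shr_id (A := A)
  rw [← h1] at h
  exact (MorphismProperty.cancel_left_of_respectsIso P _ _).mp h

theorem flat_mu : Flat (μ[A]).left := of_snd @Flat (by rw [Over.snd_left]; infer_instance)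

variable [IsProper A.hom]

theorem isProper_mu : IsProper (μ[A]).left := of_snd @IsProper (by rw [Over.snd_left]; infer_instance)

theorem lfp_mu : LocallyOfFinitePresentation (μ[A]).left :=
  of_snd @LocallyOfFinitePresentation (by rw [Over.snd_left]; infer_instance)

variable [GeometricallyIntegral A.hom]

omit [IsProper A.hom] in
theorem gi_mu : GeometricallyIntegral (μ[A]).left :=
  of_snd @GeometricallyIntegral (by rw [Over.snd_left]; infer_instance)

theorem uo_mu : UO (μ[A]).left := by
  intro T g U
  have h1 := flat_mu (A := A)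
  have h2 := isProper_mu (A := A)
  have h3 := lfp_mu (A := A)
  have h4 := gi_mu (A := A)
  exact Groth.Agent.Grpsch.CubeData.isIso_app _ U

end Mu

variable [IsProper A.hom] [GeometricallyIntegral A.hom]

section Main

variable {L : A.left.Modules} (hL : PicF.IsInvertible L)
  {K : Over (Spec (CommRingCat.of k))} {i : K ⟶ A} (hK : ThetaGrp.IsKL A L i) [IsFinite K.hom]
  {E : (A ⊗ A).left.Modules} (hE : PicF.IsInvertible E) (hEc : mk E hE = box (mk L hL)) (g : ℕ)
  (hg : topologicalKrullDim A.left = g)

omit [GrpObj A] [IsProper A.hom] [GeometricallyIntegral A.hom] in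
theorem discrete (K : Over (Spec (CommRingCat.of k))) [IsFinite K.hom] : DiscreteTopology K.left := by
  have h1 : IsLocallyArtinian K.left := IsLocallyArtinian.of_locallyQuasiFinite K.hom
  infer_instance

include hK hg in
theorem hasReg (y : A.left) (hy : y ∈ Set.range i.left.base) : K524.FinSupp.HasReg (A.left.presheaf.stalk y) g := by
  have h1 := discrete K
  have h2 := hK.closed
  have h3 : Smooth A.hom := K449.Basic.smooth A
  have h4 : IsLocallyNoetherian A.left := LocallyOfFiniteType.isLocallyNoetherian A.hom
  exact K524.Key.hasReg_stalk A g hg y (TopGlob.isClosed_pt i.left hy)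

variable [HasInjectiveResolutions (A ⊗ A).left.Modules]

include hK hE hEc hg in
theorem isZero_Rpush (p : ℕ) (hp : p ≠ g) : IsZero ((Coh.Rpush (μ[A]).left p).obj E) := by
  have h1 := flat_mu (A := A)
  have h2 := isProper_mu (A := A)
  have h3 : IsLocallyNoetherian A.left := LocallyOfFiniteType.isLocallyNoetherian A.hom
  exact TopMain.isZero_ne (μ[A]).left hE i.left g (fun y hy p => fiberRank_acyc y hL hK hE hEc hy p)
    (fun y p hp => fiberRank_top y hE g hg p hp) (hasReg hK g hg) p hp

include hK hE hEc hg in
theorem nonempty_iso {M : K.left.Modules} (hM : PicF.IsInvertible M) :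
    Nonempty ((Coh.Rpush (μ[A]).left g).obj E ≅ (Scheme.Modules.pushforward i.left).obj M) := by
  have h1 := flat_mu (A := A)
  have h2 := isProper_mu (A := A)
  have h3 : IsLocallyNoetherian A.left := LocallyOfFiniteType.isLocallyNoetherian A.hom
  have h4 := lfp_mu (A := A)
  have h5 := hK.closed
  have h6 := discrete K
  exact TopGlob.main (μ[A]).left hE i.left g (fun y hy p => fiberRank_acyc y hL hK hE hEc hy p)
    (fun y p hp => fiberRank_top y hE g hg p hp) (hasReg hK g hg) uo_mu
    (fun B _ t => cp_iff hL hK hE hEc B t) (fun y hy => fiberRank_one y hL hK hE hEc hy g hg) hM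

end Main

end K529.ConvMain
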