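import Groth.Agent.Flat2F.DescLocal3
import Groth.Agent.Flat2F.RepH0
import Groth.Agent.Fdesc.LocGen
import Groth.Agent.Ega3B.GlobSec
import Groth.Agent.Ega3B.FibreRank
import Groth.Agent.Grpsch.CubeClosed

/-!
# Sections of an invertible module over a local base, and the locus of triviality

`f : X ⟶ Spec S` flat and proper of finite presentation, `f_* O = O` universally, `E` invertible, `S` local.

* `exists_ideal`: if `E` is trivial over the closed point, there is an ideal `J` of `S` such that `E` is trivial over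
  `S / J` and `J` kills `Γ(X_B, E_B)` for every `S`-algebra `B`.
* `eq_zero_of_kill`: if `E` is trivial over the local ring `B` and `b ∈ B` kills all sections then `b = 0`.
* `exists_equiv`: `H_0(P ⊗ B) = Γ(X_B, F_B)` for the Grothendieck complex `P`.
-/

set_option autoImplicit false
universe u
open CategoryTheory CategoryTheory.Limits AlgebraicGeometry TopologicalSpace Opposite

namespace K529.TopRep

open Groth.Agent.Flat2F.SecBasis Groth.Agent.Flat2F.BasAlg Groth.Agent.Flat2F.BCSec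
open Groth.Agent.Flat2F.LocBas Groth.Agent.Flat2F.ImmGlue Groth.Agent.Flat2F.DescLocal
open Groth.Agent.Fdesc.LocGen

/-- A generator is a basis with one element. -/
theorem isBas_one_iff {R : Type*} [CommRing R] {M : Type*} [AddCommGroup M] [Module R M] (e : M) :
    IsBas R (fun _ : Fin 1 => e) ↔ Function.Bijective (fun a : R => a • e) := by
  have h : (fun c : Fin 1 → R => ∑ i, c i • e) = (fun a : R => a • e) ∘ (Equiv.funUnique (Fin 1) R) := by
    funext c
    simp
  change Function.Bijective (fun c : Fin 1 → R => ∑ i, c i • e) ↔ _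
  rw [h]
  exact Function.Bijective.of_comp_iff _ (Equiv.funUnique (Fin 1) R).bijective

theorem basOn_one {X : Scheme.{u}} {M : X.Modules} {U : X.Opens} {e : Γ(M, U)} (he : IsGen e) :
    BasOn M U (fun _ : Fin 1 => e) := by
  intro V hV
  rw [isBas_one_iff]
  exact he V hV

theorem isGen_of_basOn {X : Scheme.{u}} {M : X.Modules} {U : X.Opens} {e : Fin 1 → Γ(M, U)} (he : BasOn M U e) :
    IsGen (e 0) := by
  intro V hV
  have h := he V hV
  have h1 : (fun i => Groth.Agent.Flat2F.SecBasis.res M hV (e i)) =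
      fun _ : Fin 1 => Groth.Agent.Flat2F.SecBasis.res M hV (e 0) := by
    funext i
    rw [Subsingleton.elim i 0]
  rw [h1, isBas_one_iff] at h
  exact h

theorem hasRk_one {X : Scheme.{u}} {E : X.Modules} (hE : PicF.IsInvertible E) : HasRk E 1 := by
  intro x
  obtain ⟨U, e, hx, he⟩ := (isInvertible_iff E).mp hE x
  exact ⟨U, _, hx, basOn_one he⟩

section Local

variable {S : CommRingCat.{u}} {X : Scheme.{u}} (f : X ⟶ Spec S) {E : X.Modules}

theorem mem_relIdeal_one {A : Type*} [CommRing A] {M : Type*} [AddCommGroup M] [Module A M] (m : Fin 1 → M)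
    (c : A) (hc : c ∈ relIdeal (A := A) m) : c • m 0 = 0 := by
  have h : relIdeal (A := A) m ≤ LinearMap.ker (LinearMap.toSpanSingleton A M (m 0)) := by
    refine relIdeal_le fun c hc j => ?_
    rw [Subsingleton.elim j 0, LinearMap.mem_ker, LinearMap.toSpanSingleton_apply]
    simpa using hc
  have h1 := h hc
  rwa [LinearMap.mem_ker, LinearMap.toSpanSingleton_apply] at h1

theorem exists_ideal [IsLocalRing S] [Flat f] [IsProper f] [LocallyOfFinitePresentation f] (hO : UO f)
    (hE : PicF.IsInvertible E)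
    (hcl : CP f E (Spec.map (CommRingCat.ofHom (IsLocalRing.residue S)))) :
    ∃ J : Ideal S, CP f E (zι J) ∧
      ∀ {B : CommRingCat.{u}} {φ : S ⟶ B} {X' : Scheme.{u}} {a : X' ⟶ X} {p : X' ⟶ Spec B}
        (_ : IsPullback a p f (Spec.map φ)) (c : S), c ∈ J →
        ∀ s : Γ((Scheme.Modules.pullback a).obj E, ⊤), scal p (φ c) • s = 0 := by
  have hE' : FlatMod.IsFinLocFree E := Groth.Agent.Grpsch.CubeClosed.isFinLocFree_of_isInvertible hE
  obtain ⟨R⟩ := Groth.Agent.Flat2F.RepH0.exists_repH0 f E hE'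
  obtain ⟨n, m, g, hg, hm, hrk⟩ := exists_local_data R hE' hO (K := IsLocalRing.ResidueField S) hcl
  have hgu : IsUnit g := by
    by_contra h
    exact hg ((IsLocalRing.residue_eq_zero_iff g).mpr h)
  have hgn : ∀ q : Spec S, g ∉ q.asIdeal := fun q hq =>
    q.isPrime.ne_top (Ideal.eq_top_of_isUnit_mem _ hq hgu)
  have hrk' : HasRk E n := fun x => hrk x (hgn _)
  have hm' : Submodule.span S (Set.range m) = ⊤ := by
    rw [eq_top_iff]
    intro x _
    obtain ⟨u, rfl⟩ := hgu
    have h1 := Submodule.smul_mem _ (↑u⁻¹ : S) (hm x)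
    rwa [smul_smul, Units.inv_mul, one_smul] at h1
  -- the rank is one
  obtain rfl : n = 1 := by
    have hne : Nonempty X := by
      have h1 : IsIso (f.app ⊤) := hO.isIso_app (IsPullback.of_id_fst (f := f)) ⊤
      exact nonempty_of_nontrivial f
    obtain ⟨x⟩ := hne
    obtain ⟨V, w, hx, hw⟩ := hrk' x
    obtain ⟨V', w', hx', hw'⟩ := hasRk_one hE x
    exact IsBas.eq_of_isBas (hw.basAt x hx) (hw'.basAt x hx')
  let q : Spec (CommRingCat.of (IsLocalRing.ResidueField S)) := (⊥ : PrimeSpectrum (IsLocalRing.ResidueField S))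
  obtain ⟨g', hg', hT⟩ := exists_nbhd R hO hrk' m hm' hcl q
  have hg'u : IsUnit g' := by
    by_contra h
    apply hg'
    change IsLocalRing.residue S g' ∈ (⊥ : Ideal (IsLocalRing.ResidueField S))
    rw [Ideal.mem_bot]
    exact (IsLocalRing.residue_eq_zero_iff g').mpr h
  refine ⟨relIdeal (A := S) m, ?_, ?_⟩
  · have h1 := hT _ (𝟙 _) (fun x hx =>
      ((𝟙 _ ≫ zι (relIdeal (A := S) m)).base x).isPrime.ne_top (Ideal.eq_top_of_isUnit_mem _ hx hg'u))
    rwa [Category.id_comp] at h1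
  · intro B φ X' a p H c hc s
    obtain ⟨α, rfl⟩ := (R.bij H).2 s
    rw [← theta_smul R H (φ c) α]
    have h2 : (φ c) • α = 0 := by
      refine semilin_ext R hm' fun j => ?_
      rw [Subsingleton.elim j 0, LinearMap.smul_apply, LinearMap.zero_apply]
      have h3 : α (c • m 0) = 0 := by rw [mem_relIdeal_one m c hc, map_zero]
      rwa [LinearMap.map_smulₛₗ] at h3
    rw [h2, theta_zero]

end Local

theorem eq_zero_of_kill {X X' : Scheme.{u}} {E : X.Modules} (hE : PicF.IsInvertible E) {B : CommRingCat.{u}}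
    [IsLocalRing B] {a : X' ⟶ X} {p : X' ⟶ Spec B} [IsIso (p.app ⊤)] (hL : LB E a p) (b : B)
    (hb : ∀ s : Γ((Scheme.Modules.pullback a).obj E, ⊤), scal p b • s = 0) : b = 0 := by
  obtain ⟨V, r, s, ht, hs⟩ := hL (IsLocalRing.closedPoint B)
  obtain rfl : V = ⊤ := IsLocalRing.closed_point_mem_iff.mp ht
  obtain ⟨x⟩ := nonempty_of_nontrivial p
  obtain ⟨W, w, hx, hw⟩ := hasRk_one hE (a.base x)
  obtain rfl : r = 1 := rank_eq hw x hx (U := p ⁻¹ᵁ ⊤) trivial hs
  have h1 := (isGen_of_basOn hs) ⊤ le_rfl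
  have h2 := hb (s 0)
  apply (scal_bijective p).1
  rw [map_zero]
  apply h1.1
  change scal p b • _ = (0 : Γ(X', ⊤)) • _
  rw [zero_smul]
  refine Eq.trans ?_ h2
  congr 1
  exact res_refl _ _

section Link

open Groth.Agent.Flat2F.RepNoeth Groth.Agent.Flat2F.RepH0Noeth Groth.Agent.PerfA.CechH0

variable {A : Type u} [CommRing A] {X : Scheme.{u}} [X.Over (Spec (CommRingCat.of A))] (F : X.Modules)
  (P : ChainComplex (ModuleCat.{u} A) ℤ)
  (e : CohIII.tensorAFunctor A F ⋙ CohIII.HAb X 0 ≅ CohIII.TFun P 0 ⋙ forget₂ (ModuleCat.{u} A) AddCommGrpCat.{u})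

include e in
theorem exists_eps (N : ModuleCat.{u} A) : ∃ ε : Γ(G F N, ⊤) ≃+ CohIII.T P 0 N,
    ∀ (a : A) (x : Γ(G F N, ⊤)), ε (gmap F (a • 𝟙 N) ⊤ x) = a • ε x := by
  let e₂ : (CohIII.tensorAFunctor A F ⋙ CohIII.globalSectionsA A) ⋙
      forget₂ (ModuleCat.{u} A) AddCommGrpCat.{u} ≅
      CohIII.TFun P 0 ⋙ forget₂ (ModuleCat.{u} A) AddCommGrpCat.{u} :=
    Functor.associator _ _ _ ≪≫
      Functor.isoWhiskerLeft (CohIII.tensorAFunctor A F) Groth.Agent.Ega3B.GlobSec.globIso ≪≫ e
  let ε : Γ(G F N, ⊤) ≃+ CohIII.T P 0 N := (e₂.app N).addCommGroupIsoToAddEquiv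
  refine ⟨ε, fun a x => ?_⟩
  have h1 := ConcreteCategory.congr_hom (e₂.hom.naturality (a • 𝟙 N)) x
  have h2 : ((CohIII.TFun P 0 ⋙ forget₂ (ModuleCat.{u} A) AddCommGrpCat.{u}).map (a • 𝟙 N)) (ε x) = a • ε x := by
    change ((CohIII.TFun P 0).map (a • 𝟙 N)).hom (ε x) = a • ε x
    rw [Groth.Agent.Ega3B.FibreRank.TFun_map_smul]
    rfl
  rw [← h2]
  exact h1

include e in
/-- An element kills `H_0(P ⊗ B)` iff it kills the sections of `F` over `X_B`. -/
theorem kill_iff (hF : Coh.IsQCoh F) {B : Type u} [CommRing B] [Algebra A B] {Y : Scheme.{u}}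
    {g : Y ⟶ X} {h : Y ⟶ Spec (CommRingCat.of B)}
    (H : IsPullback g h (X ↘ Spec (CommRingCat.of A)) (Spec.map (CommRingCat.ofHom (algebraMap A B)))) (c : A) :
    (∀ m : CohIII.T P 0 (ModuleCat.of A B), c • m = 0) ↔
      ∀ s : Γ((Scheme.Modules.pullback g).obj F, ⊤), scal (B := CommRingCat.of B) h (algebraMap A B c) • s = 0 := by
  obtain ⟨ε, hε⟩ := exists_eps F P e (ModuleCat.of A B)
  have h1 : (ModuleCat.ofHom (LinearMap.mulLeft A (algebraMap A B c)) : ModuleCat.of A B ⟶ ModuleCat.of A B) =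
      c • 𝟙 _ := by
    ext x
    exact (Algebra.smul_def c x).symm
  have h2 : ∀ x : Γ(G F (ModuleCat.of A B), ⊤), T F hF H (gmap F (c • 𝟙 _) ⊤ x) =
      scal (B := CommRingCat.of B) h (algebraMap A B c) • T F hF H x := by
    intro x
    have := T_smul F hF H (algebraMap A B c) x
    rw [h1] at this
    rw [this]
    congr 1
    exact str_top (B := CommRingCat.of B) h (algebraMap A B c)
  constructor
  · intro hm s
    obtain ⟨x, rfl⟩ := (T F hF H).surjective s
    rw [← h2]
    have h3 : gmap F (c • 𝟙 (ModuleCat.of A B)) ⊤ x = 0 := by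
      apply ε.injective
      rw [hε, hm, map_zero]
    rw [h3, map_zero]
  · intro hs m
    obtain ⟨x, rfl⟩ := ε.surjective m
    rw [← hε]
    have h3 : gmap F (c • 𝟙 (ModuleCat.of A B)) ⊤ x = 0 := by
      apply (T F hF H).injective
      rw [h2, hs, map_zero]
    rw [h3, map_zero]

end Link

end K529.TopRep
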