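import Groth.Agent.AbVar.K529.KL
import Groth.Agent.AbVar.K529.TopRep
import Groth.Agent.Grpsch.Cube
import Groth.Agent.Flat2F.DescLocal
import Mathlib.AlgebraicGeometry.Group.Abelian

/-!
# Convolution of `L` and `[-1]^* L⁻¹`: points

`box c = p₁^* c ⊗ (p₂⁻¹)^* c⁻¹` on `A × A`; the base change of `m : A × A ⟶ A` along `y : T ⟶ A` is `A × T` and
`box c` becomes `p₁^* c ⊗ (p₁ · y⁻¹)^* c⁻¹` (`shr`, `pl_shr_box`).  Over a local ring it is trivial iff `y ∈ K(L)`.
-/

set_option autoImplicit false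
universe u

open CategoryTheory CategoryTheory.Limits MonoidalCategory CartesianMonoidalCategory AlgebraicGeometry TopologicalSpace
open scoped MonObj GrpObj
open Groth.Agent Groth.Agent.Grpsch.PicGrp Groth.Agent.Grpsch.Cube
open Groth.Agent.Flat2F.LocBas Groth.Agent.Flat2F.DescLocal Groth.Agent.Flat2F.BasAlg

namespace K529.ConvPts

section Cat

variable {C : Type*} [Category* C] [CartesianMonoidalCategory C] {A T : C} [GrpObj A]

/-- The base change of the group law along `y`. -/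
noncomputable def shr (y : T ⟶ A) : A ⊗ T ⟶ A ⊗ A := lift (fst A T) ((fst A T)⁻¹ * (snd A T ≫ y))

theorem shr_fst (y : T ⟶ A) : shr y ≫ fst A A = fst A T := lift_fst _ _
theorem shr_snd (y : T ⟶ A) : shr y ≫ snd A A = (fst A T)⁻¹ * (snd A T ≫ y) := lift_snd _ _

theorem mu_eq : μ[A] = fst A A * snd A A := by
  rw [Hom.mul_def, lift_fst_snd, Category.id_comp]

theorem isPullback_shr (y : T ⟶ A) : IsPullback (shr y) (snd A T) μ[A] y := by
  refine ⟨⟨?_⟩, ⟨PullbackCone.IsLimit.mk _ (fun s => lift (s.fst ≫ fst A A) s.snd) ?_ ?_ ?_⟩⟩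
  · rw [mu_eq, MonObj.comp_mul, shr_fst, shr_snd, mul_inv_cancel_left]
  · intro s
    have h : (s.fst ≫ fst A A) * (s.fst ≫ snd A A) = s.snd ≫ y := by
      rw [← MonObj.comp_mul, ← mu_eq]
      exact s.condition
    apply CartesianMonoidalCategory.hom_ext
    · rw [Category.assoc, shr_fst, lift_fst]
    · rw [Category.assoc, shr_snd, MonObj.comp_mul, ← Category.assoc _ _ y, lift_snd, GrpObj.comp_inv, lift_fst, ← h,
        inv_mul_cancel_left]
  · intro s
    exact lift_snd _ _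
  · intro s m h1 h2
    apply CartesianMonoidalCategory.hom_ext
    · rw [lift_fst, ← h1, Category.assoc, shr_fst]
    · rw [lift_snd, ← h2]

end Cat

section Pic

variable {k : Type u} [Field k] {A : Over (Spec (CommRingCat.of k))} [GrpObj A]

/-- The class `p₁^* c ⊗ (p₂⁻¹)^* c⁻¹` on `A × A`. -/
noncomputable def box (c : Pic A.left) : Pic (A ⊗ A).left := pl (fst A A) c * (pl (snd A A)⁻¹ c)⁻¹

variable [IsProper A.hom] [GeometricallyIntegral A.hom]

theorem pl_shr_box (c : Pic A.left) {T : Over (Spec (CommRingCat.of k))} (y : T ⟶ A) :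
    pl (shr y) (box c) = pl (fst A T) c * (pl (fst A T * (snd A T ≫ y)⁻¹) c)⁻¹ := by
  have hcomm : IsCommMonObj A := isCommMonObj_of_isProper_of_geometricallyIntegral A
  rw [box, map_mul, map_inv, ← pl_comp, ← pl_comp, shr_fst, GrpObj.comp_inv, shr_snd, mul_inv, inv_inv]

/-- Additivity in the second variable. -/
theorem cube_inv (c : Pic A.left) {T : Over (Spec (CommRingCat.of k))} (a x : T ⟶ A)
    (h : pl (a * x) c = pl a c * pl x c) : pl (a * x⁻¹) c = pl a c * pl x⁻¹ c := by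
  have h1 := cube c a x x⁻¹
  rw [mul_inv_cancel, mul_inv_cancel_right, pl_one, h] at h1
  have h2 : pl a c * pl x c * (pl a c * pl x⁻¹ c) = pl a c * pl x c * pl (a * x⁻¹) c := by
    rw [mul_one] at h1
    rw [← h1]
    simp only [mul_comm, mul_left_comm]
  exact (mul_left_cancel h2).symm

omit [GrpObj A] [IsProper A.hom] [GeometricallyIntegral A.hom] in
theorem pl_spec_local {B : CommRingCat.{u}} [IsLocalRing B] (τ : Spec B ⟶ Spec (CommRingCat.of k))
    (y : Over.mk τ ⟶ A) (c : Pic A.left) : pl y c = 1 := pic_spec_local B _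

/-- `box c` along `y` over a local base is trivial iff `y` is a point of `K(L)`. -/
theorem pl_shr_box_eq_one_iff {L : A.left.Modules} (hL : PicF.IsInvertible L)
    {K : Over (Spec (CommRingCat.of k))} {i : K ⟶ A} (hK : ThetaGrp.IsKL A L i) {B : CommRingCat.{u}} [IsLocalRing B]
    (τ : Spec B ⟶ Spec (CommRingCat.of k)) (y : Over.mk τ ⟶ A) :
    pl (shr y) (box (mk L hL)) = 1 ↔ ∃ z : Over.mk τ ⟶ K, z ≫ i = y := by
  rw [KL.exists_factor_iff hL hK, pl_shr_box, mul_inv_eq_one]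
  have h1 : ∀ x : Over.mk τ ⟶ A, pl (snd A (Over.mk τ) ≫ x) (mk L hL) = 1 := fun x => by
    rw [pl_comp, pl_spec_local τ x, map_one]
  constructor
  · intro h
    have h2 := cube_inv (mk L hL) (fst A (Over.mk τ)) (snd A (Over.mk τ) ≫ y)⁻¹ (by
      rw [← h, ← GrpObj.comp_inv, h1, mul_one])
    rwa [inv_inv] at h2
  · intro h
    have h2 := cube_inv (mk L hL) (fst A (Over.mk τ)) (snd A (Over.mk τ) ≫ y) h
    rw [h2, ← GrpObj.comp_inv, h1, mul_one]

end Pic

theorem lb_iff {X X' : Scheme.{u}} {E : X.Modules} (hE : PicF.IsInvertible E) {B : CommRingCat.{u}} [IsLocalRing B]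
    (a : X' ⟶ X) (p : X' ⟶ Spec B) [Nonempty X'] : LB E a p ↔ pull a (mk E hE) = 1 := by
  rw [pull_mk, mk_eq_one_iff]
  constructor
  · intro hL
    obtain ⟨V, r, s, ht, hs⟩ := hL (IsLocalRing.closedPoint B)
    obtain rfl : V = ⊤ := IsLocalRing.closed_point_mem_iff.mp ht
    obtain ⟨x⟩ := ‹Nonempty X'›
    obtain ⟨W, w, hx, hw⟩ := TopRep.hasRk_one hE (a.base x)
    obtain rfl : r = 1 := Groth.Agent.Flat2F.DescLocal.rank_eq hw x hx (U := p ⁻¹ᵁ ⊤) trivial hs
    have h1 := TopRep.isGen_of_basOn hs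
    have : IsIso (Groth.Agent.Fdesc.LocGen.homOf (s 0)) := by
      rw [Groth.Agent.Fdesc.LocGen.isIso_iff_isGen, Groth.Agent.Fdesc.LocGen.sec_homOf]
      exact h1.res _
    exact ⟨(asIso (Groth.Agent.Fdesc.LocGen.homOf (s 0))).symm⟩
  · rintro ⟨e⟩ t
    have h1 : Groth.Agent.Fdesc.LocGen.IsGen (Groth.Agent.Fdesc.LocGen.sec e.inv ⊤) :=
      (Groth.Agent.Fdesc.LocGen.isIso_iff_isGen e.inv).mp inferInstance
    exact ⟨⊤, 1, _, trivial, TopRep.basOn_one h1⟩

section Geo

variable {k : Type u} [Field k] {A : Over (Spec (CommRingCat.of k))} [GrpObj A] [IsProper A.hom]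
  [GeometricallyIntegral A.hom]

/-- The hypothesis `hZ` of the top direct image theorem. -/
theorem cp_iff {L : A.left.Modules} (hL : PicF.IsInvertible L)
    {K : Over (Spec (CommRingCat.of k))} {i : K ⟶ A} (hK : ThetaGrp.IsKL A L i) {E : (A ⊗ A).left.Modules}
    (hE : PicF.IsInvertible E) (hEc : mk E hE = box (mk L hL)) (B : CommRingCat.{u}) [IsLocalRing B]
    (t : Spec B ⟶ A.left) : (∃ t', t' ≫ i.left = t) ↔ CP (μ[A]).left E t := by
  let y : Over.mk (t ≫ A.hom) ⟶ A := Over.homMk t rfl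
  have hp : IsPullback (shr y).left (snd A (Over.mk (t ≫ A.hom))).left (μ[A]).left y.left :=
    IsPullback.map (Over.forget _) (isPullback_shr y)
  have hne : Nonempty (A ⊗ Over.mk (t ≫ A.hom)).left := by
    have h1 : Surjective (snd A (Over.mk (t ≫ A.hom))).left := by
      rw [Over.snd_left]
      infer_instance
    obtain ⟨w, -⟩ := h1.surj (IsLocalRing.closedPoint B)
    exact ⟨w⟩
  have h2 : CP (μ[A]).left E y.left ↔ LB E (shr y).left (snd A (Over.mk (t ≫ A.hom))).left := CP_iff hp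
  have h3 := lb_iff hE (B := B) (shr y).left (snd A (Over.mk (t ≫ A.hom))).left
  rw [show t = y.left from rfl, h2, h3, hEc]
  change _ ↔ pl (shr y) (box (mk L hL)) = 1
  rw [pl_shr_box_eq_one_iff hL hK (t ≫ A.hom) y]
  constructor
  · rintro ⟨t', ht'⟩
    refine ⟨Over.homMk t' ?_, ?_⟩
    · rw [← Over.w i, reassoc_of% ht']
      rfl
    · ext1
      exact ht'
  · rintro ⟨z, hz⟩
    exact ⟨z.left, congrArg Over.Hom.left hz⟩

end Geo

end K529.ConvPts
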