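import Groth.Agent.AbVar.K529.ConvAdd
import Groth.Agent.AbVar.K524.Bc
import Groth.Agent.Sga7.H734.FinKer

/-!
# `K(L)` is finite if `χ(L) ≠ 0`, over any field
-/

set_option autoImplicit false
universe u

open CategoryTheory CategoryTheory.Limits MonoidalCategory CartesianMonoidalCategory AlgebraicGeometry TopologicalSpace
open scoped MonObj GrpObj
open Groth.Agent Groth.Agent.Grpsch.PicGrp Groth.Agent.Grpsch.Cube K524.Kun K524.Chi
open Groth.Agent.RedSub.H654.PtBc K524.Bc

attribute [local instance] Functor.grpObjObj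

namespace K529.KLFin

open ConvPts ConvAdd

variable {k : Type u} [Field k] {A : Over (Spec (CommRingCat.of k))} [GrpObj A]
  [IsProper A.hom] [GeometricallyIntegral A.hom]

/-- A geometric point of `K(L)` is in the kernel of `phi` over the algebraically closed field. -/
theorem phi_eq_one {L : A.left.Modules} (hL : PicF.IsInvertible L)
    {K : Over (Spec (CommRingCat.of k))} {i : K ⟶ A} (hK : ThetaGrp.IsKL A L i) (F : Type u) [Field F] [Algebra k F]
    (x : Over.mk (t k F) ⟶ A) (y : Over.mk (t k F) ⟶ K) (hy : y ≫ i = x) :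
    K506.Transl.phi (pull (pr F A) (mk L hL)) (up (Category.id_comp (t k F)) x) = 1 := by
  let c := mk L hL
  let AF := bc F A
  let x' : 𝟙_ (Over (Spec (CommRingCat.of F))) ⟶ AF := up (Category.id_comp (t k F)) x
  have h1 := (KL.exists_factor_iff hL hK x).mp ⟨y, hy⟩
  have h2 : pl (snd A (Over.mk (t k F)) ≫ x) c = 1 := by rw [pl_comp, pl_spec_local (t k F) x, map_one]
  rw [h2, mul_one] at h1
  let a : AF.left ⟶ Spec (CommRingCat.of F) := AF.hom
  let m : Over.mk a ⟶ AF := 𝟙 AF
  let e : Over.mk (a ≫ t k F) ⟶ A ⊗ Over.mk (t k F) := toTens (t k F) m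
  have h3 : dn rfl (m * (show Over.mk a ⟶ AF from toUnit AF ≫ x') : Over.mk a ⟶ AF) =
      e ≫ (fst A (Over.mk (t k F)) * (snd A (Over.mk (t k F)) ≫ x)) := by
    rw [dn_mul, MonObj.comp_mul, toTens_fst, ← Category.assoc, toTens_snd]
    congr 1
    ext1
    change ((toUnit AF).left ≫ x'.left) ≫ pullback.fst A.hom (t k F) = a ≫ x.left
    rw [Category.assoc]
    have h4 : x'.left ≫ pullback.fst A.hom (t k F) = x.left := up_left_fst _ x
    rw [h4]
    rfl
  unfold K506.Transl.phi
  rw [mul_inv_eq_one]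
  have h5 : pl (K506.Transl.tr x') (pull (pr F A) c) = pl e (pl (fst A (Over.mk (t k F)) * (snd A (Over.mk (t k F)) ≫ x)) c) := by
    rw [← pl_comp, ← h3]
    unfold pl
    rw [← pull_comp]
    rfl
  have h6 : pl e (pl (fst A (Over.mk (t k F))) c) = pull (pr F A) c := by
    rw [← pl_comp, toTens_fst]
    unfold pl
    congr 1
  exact h5.trans ((congrArg (pl e) h1).trans h6)

/-- `K(L)` is finite when `χ(L) ≠ 0`. -/
theorem isFinite_of_chi {L : A.left.Modules} (hL : PicF.IsInvertible L)
    {K : Over (Spec (CommRingCat.of k))} {i : K ⟶ A} (hK : ThetaGrp.IsKL A L i) (h : chi (mk L hL) ≠ 0) :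
    IsFinite K.hom := by
  have hcl := hK.closed
  have h1 : chi (X := bc (AlgebraicClosure k) A) (pull (pr (AlgebraicClosure k) A) (mk L hL)) ≠ 0 := by
    rwa [chi_bc]
  have h2 : K524.Index.ND (X := bc (AlgebraicClosure k) A) (pull (pr (AlgebraicClosure k) A) (mk L hL)) := nd_of_chi h1
  have h3 : K.hom = i.left ≫ A.hom := (Over.w i).symm
  have h4 : LocallyOfFiniteType K.hom := by rw [h3]; infer_instance
  have h5 : QuasiCompact K.hom := by rw [h3]; infer_instance
  refine Sga7.H734.FinKer.isFinite_of_points (Ω := AlgebraicClosure k) (t k (AlgebraicClosure k)) K.hom ?_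
  have h6 : Finite {x : 𝟙_ (Over (Spec (CommRingCat.of (AlgebraicClosure k)))) ⟶ bc (AlgebraicClosure k) A //
      K506.Transl.phi (pull (pr (AlgebraicClosure k) A) (mk L hL)) x = 1} := h2.to_subtype
  refine Finite.of_injective (β := {x : 𝟙_ (Over (Spec (CommRingCat.of (AlgebraicClosure k)))) ⟶ bc (AlgebraicClosure k) A //
      K506.Transl.phi (pull (pr (AlgebraicClosure k) A) (mk L hL)) x = 1})
    (fun p => ⟨up (Category.id_comp _) (Over.homMk p.1 p.2 ≫ i), phi_eq_one hL hK (AlgebraicClosure k) _ _ rfl⟩) ?_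
  intro p q hpq
  have h7 := up_injective (Category.id_comp _) (congrArg Subtype.val hpq)
  have h8 : p.1 ≫ i.left = q.1 ≫ i.left := congrArg Over.Hom.left h7
  exact Subtype.ext ((cancel_mono i.left).mp h8)

end K529.KLFin
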