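import Groth.Agent.S1490
import Groth.Agent.AbVar.K529.KL
import Mathlib.AlgebraicGeometry.Group.Abelian

/-!
# The theorem of the cube with a connected parameter scheme

`X` an abelian variety over a field, `T` a connected scheme over the field: an invertible class on
`(X × X) × T` which is trivial along `1 × X × T`, along `X × 1 × T` and on one fibre over `T`, is trivial.
-/

set_option autoImplicit false
universe u

open CategoryTheory Limits MonoidalCategory CartesianMonoidalCategory AlgebraicGeometry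
open scoped MonObj GrpObj

namespace K529.RelCube

open Groth.Agent.Grpsch.PicGrp K529.KL

variable {k : Type u} [Field k] {X T : Over (Spec (CommRingCat.of k))} [GrpObj X]

/-- The identity section as a morphism of schemes. -/
noncomputable def e₀ (X : Over (Spec (CommRingCat.of k))) [GrpObj X] :
    Spec (CommRingCat.of k) ⟶ X.left := η[X].left

theorem e₀_hom : e₀ X ≫ X.hom = 𝟙 _ := Over.w η[X]

theorem eq_one_of_left {T : Over (Spec (CommRingCat.of k))} (g : T ⟶ X)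
    (h : g.left = T.hom ≫ e₀ X) : g = 1 := by
  have h1 : (1 : T ⟶ X) = toUnit T ≫ η[X] := rfl
  rw [h1]
  ext1
  rw [h]
  rfl

theorem map_fst_comp {C : Type*} [Category C] [HasPullbacks C] {W X Y Z S T V : C} (f₁ : W ⟶ S)
    (f₂ : X ⟶ S) (g₁ : Y ⟶ T) (g₂ : Z ⟶ T) (i₁ : W ⟶ Y) (i₂ : X ⟶ Z) (i₃ : S ⟶ T)
    (eq₁ : f₁ ≫ i₃ = i₁ ≫ g₁) (eq₂ : f₂ ≫ i₃ = i₂ ≫ g₂) (q : Y ⟶ V) :
    pullback.map f₁ f₂ g₁ g₂ i₁ i₂ i₃ eq₁ eq₂ ≫ pullback.fst g₁ g₂ ≫ q =
      pullback.fst f₁ f₂ ≫ i₁ ≫ q := by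
  rw [pullback.map, ← Category.assoc, pullback.lift_fst, Category.assoc]

/-- The cube principle with parameters. -/
theorem eq_one [IsProper X.hom] [GeometricallyIntegral X.hom] [ConnectedSpace ↥T.left]
    (c : Pic ((X ⊗ X) ⊗ T).left)
    (h1 : ∀ {W : Over (Spec (CommRingCat.of k))} (f : W ⟶ (X ⊗ X) ⊗ T),
      f ≫ fst _ _ ≫ fst _ _ = 1 → pl f c = 1)
    (h2 : ∀ {W : Over (Spec (CommRingCat.of k))} (f : W ⟶ (X ⊗ X) ⊗ T),
      f ≫ fst _ _ ≫ snd _ _ = 1 → pl f c = 1)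
    (t : T.left) (h3 : pull (pullback.fst (snd (X ⊗ X) T).left (T.left.fromSpecResidueField t)) c = 1) :
    c = 1 := by
  obtain ⟨M, hM, rfl⟩ := exists_mk c
  rw [mk_eq_one_iff hM]
  have key : ∀ (W : Scheme.{u}) (φ : W ⟶ pullback (pullback.fst X.hom X.hom ≫ X.hom) T.hom),
      ((φ ≫ pullback.fst (pullback.fst X.hom X.hom ≫ X.hom) T.hom ≫ pullback.fst X.hom X.hom =
          φ ≫ pullback.fst (pullback.fst X.hom X.hom ≫ X.hom) T.hom ≫
            pullback.fst X.hom X.hom ≫ X.hom ≫ e₀ X) ∨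
        (φ ≫ pullback.fst (pullback.fst X.hom X.hom ≫ X.hom) T.hom ≫ pullback.snd X.hom X.hom =
          φ ≫ pullback.fst (pullback.fst X.hom X.hom ≫ X.hom) T.hom ≫
            pullback.fst X.hom X.hom ≫ X.hom ≫ e₀ X)) →
      Nonempty ((Scheme.Modules.pullback φ).obj M ≅ Coh.structureModule W) := by
    intro W φ h
    rw [← mk_eq_one_iff (Groth.Agent.Fdesc.LocGen.isInvertible_pullback φ hM),
      ← pull_mk φ hM]
    let f : Over.mk (φ ≫ ((X ⊗ X) ⊗ T).hom) ⟶ (X ⊗ X) ⊗ T := Over.homMk φ rfl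
    change pl f (mk M hM) = 1
    rcases h with h | h
    · exact h1 f (eq_one_of_left _ (h.trans (by simp)))
    · exact h2 f (eq_one_of_left _ (h.trans (by simp)))
  refine Groth.Agent.S1490.result X.hom X.hom T.hom (e₀ X) e₀_hom (e₀ X) e₀_hom M hM ?_ ?_ ?_
  · refine key _ _ (Or.inl ((map_fst_comp _ _ _ _ _ _ _ _ _ _).trans
      (Eq.trans ?_ (map_fst_comp _ _ _ _ _ _ _ _ _ _).symm)))
    congr 1
    rw [pullback.lift_fst, pullback.lift_fst_assoc, Category.assoc, reassoc_of% (e₀_hom (X := X))]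
  · refine key _ _ (Or.inr ((map_fst_comp _ _ _ _ _ _ _ _ _ _).trans
      (Eq.trans ?_ (map_fst_comp _ _ _ _ _ _ _ _ _ _).symm)))
    congr 1
    rw [pullback.lift_snd, pullback.lift_fst_assoc, Category.id_comp]
  · rw [pull_mk, mk_eq_one_iff] at h3
    exact ⟨t, h3⟩

end K529.RelCube
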