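import Mathlib.RingTheory.Regular.RegularSequence
import Mathlib.RingTheory.Regular.Flat
import Mathlib.LinearAlgebra.Quotient.Basic
import Mathlib.LinearAlgebra.TensorProduct.RightExactness
import Mathlib.Algebra.Module.Projective
import Mathlib.Tactic

/-!
# Algebra for the top direct image

`kill_top`: let `M 0 = 0 → M 1 → M 2 → ⋯` be a complex of `R`-modules exact at `M 1, …, M g`, `rs` a sequence of length
`g`, weakly regular on all the `M i`, killing the cohomology at `M (g + 1)`.  If `a` kills the kernel of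
`M 1 / rs → M 2 / rs`, then `a` kills the cohomology at `M (g + 1)`.

`exists_homotopy`, `kill_bot`: a bounded complex of projective modules exact except in degree `g`, where the cohomology is
killed by `a`: then `a` kills the cohomology in degree `0` of `M ⊗ C` for every `M`.
-/

set_option autoImplicit false

universe u v w

namespace K529.TopAlg

open RingTheory.Sequence
open scoped Pointwise TensorProduct

variable {R : Type u} [CommRing R]

theorem mem_ofList_cons {M : Type v} [AddCommGroup M] [Module R M] (r : R) (rs : List R) (x : M) :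
    x ∈ (Ideal.ofList (r :: rs) • (⊤ : Submodule R M)) ↔
      ∃ y, x - r • y ∈ (Ideal.ofList rs • (⊤ : Submodule R M)) := by
  rw [Ideal.ofList_cons, Submodule.sup_smul, Submodule.mem_sup]
  constructor
  · rintro ⟨y, hy, z, hz, rfl⟩
    rw [Submodule.ideal_span_singleton_smul, Submodule.mem_smul_pointwise_iff_exists] at hy
    obtain ⟨y', -, rfl⟩ := hy
    exact ⟨y', by rwa [add_sub_cancel_left]⟩
  · rintro ⟨y, hy⟩
    refine ⟨r • y, Submodule.smul_mem_smul (Ideal.mem_span_singleton_self r) trivial, _, hy, by abel⟩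

theorem mem_smul_top_mk {M : Type v} [AddCommGroup M] [Module R M] (I : Ideal R) (N : Submodule R M) (x : M) :
    (Submodule.Quotient.mk x : M ⧸ N) ∈ (I • (⊤ : Submodule R (M ⧸ N))) ↔
      ∃ y ∈ (I • (⊤ : Submodule R M)), x - y ∈ N := by
  have h : (I • (⊤ : Submodule R (M ⧸ N))) = (I • (⊤ : Submodule R M)).map N.mkQ := by
    rw [Submodule.map_smul'', Submodule.map_top, Submodule.range_mkQ]
  rw [h, Submodule.mem_map]
  constructor
  · rintro ⟨y, hy, hxy⟩
    refine ⟨y, hy, ?_⟩
    rw [← Submodule.Quotient.mk_eq_zero, Submodule.Quotient.mk_sub, sub_eq_zero]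
    exact hxy.symm
  · rintro ⟨y, hy, hxy⟩
    refine ⟨y, hy, ?_⟩
    rw [← Submodule.Quotient.mk_eq_zero, Submodule.Quotient.mk_sub, sub_eq_zero] at hxy
    exact hxy.symm

theorem kill_top (a : R) : ∀ (g : ℕ) (M : ℕ → Type v) [∀ i, AddCommGroup (M i)] [∀ i, Module R (M i)]
    (d : ∀ i, M i →ₗ[R] M (i + 1)) (_ : ∀ i x, d (i + 1) (d i x) = 0) (_ : Subsingleton (M 0))
    (rs : List R) (_ : rs.length = g) (_ : ∀ i, IsWeaklyRegular (M i) rs)
    (_ : ∀ i, i < g → ∀ x, d (i + 1) x = 0 → ∃ y, d i y = x)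
    (_ : ∀ r ∈ rs, ∀ z : M (g + 1), d (g + 1) z = 0 → ∃ y, d g y = r • z)
    (_ : ∀ z : M 1, d 1 z ∈ (Ideal.ofList rs • (⊤ : Submodule R (M 2))) →
      a • z ∈ (Ideal.ofList rs • (⊤ : Submodule R (M 1))))
    (z : M (g + 1)) (_ : d (g + 1) z = 0), ∃ y, d g y = a • z := by
  intro g
  induction g with
  | zero =>
    intro M _ _ d hdd h0 rs hrs hreg hex hrz ha z hz
    obtain rfl : rs = [] := List.eq_nil_of_length_eq_zero hrs
    have h1 := ha z (by rw [hz]; exact zero_mem _)
    rw [Ideal.ofList_nil, Submodule.bot_smul, Submodule.mem_bot] at h1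
    exact ⟨0, by rw [map_zero]; exact h1.symm⟩
  | succ g ih =>
    intro M _ _ d hdd h0 rs hrs hreg hex hrz ha z hz
    obtain ⟨r, rs', rfl⟩ : ∃ r rs', rs = r :: rs' := by
      cases rs with
      | nil => simp at hrs
      | cons r rs' => exact ⟨r, rs', rfl⟩
    have hrs' : rs'.length = g := by simpa using hrs
    have hr : ∀ i, IsSMulRegular (M i) r := fun i => ((isWeaklyRegular_cons_iff _ _ _).mp (hreg i)).1
    have hr0 : ∀ i (x : M i), r • x = 0 → x = 0 := fun i x hx => (hr i) (by
      change r • x = r • 0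
      rw [hx, smul_zero])
    -- the quotient complex
    let Q : ℕ → Type v := fun i => QuotSMulTop r (M i)
    let dQ : ∀ i, Q i →ₗ[R] Q (i + 1) := fun i => QuotSMulTop.map r (d i)
    have hQmk : ∀ i (x : M i), dQ i (Submodule.Quotient.mk x) = Submodule.Quotient.mk (d i x) := fun i x => rfl
    have hmk : ∀ i (x : M i), (Submodule.Quotient.mk x : Q i) = 0 ↔ ∃ y, r • y = x := by
      intro i x
      rw [Submodule.Quotient.mk_eq_zero, Submodule.mem_smul_pointwise_iff_exists]
      simp
    -- membership in `rs' Q`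
    have hmem : ∀ i (x : M i), (Submodule.Quotient.mk x : Q i) ∈ (Ideal.ofList rs' • (⊤ : Submodule R (Q i))) ↔
        x ∈ (Ideal.ofList (r :: rs') • (⊤ : Submodule R (M i))) := by
      intro i x
      rw [mem_ofList_cons, mem_smul_top_mk]
      simp only [Submodule.mem_smul_pointwise_iff_exists, Submodule.mem_top, true_and]
      constructor
      · rintro ⟨y, hy, z, hz⟩
        refine ⟨z, ?_⟩
        rwa [hz, sub_sub_cancel]
      · rintro ⟨y, hy⟩
        exact ⟨_, hy, y, by rw [sub_sub_cancel]⟩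
    obtain ⟨w, hw⟩ := hrz r List.mem_cons_self z hz
    obtain ⟨v, hv⟩ : ∃ v, dQ g v = a • (Submodule.Quotient.mk w : Q (g + 1)) := by
      refine ih Q dQ ?_ ?_ rs' hrs' ?_ ?_ ?_ ?_ (Submodule.Quotient.mk w) ?_
      · intro i x
        obtain ⟨x, rfl⟩ := Submodule.Quotient.mk_surjective _ x
        rw [hQmk, hQmk, hdd]
        rfl
      · exact ⟨fun a b => by
          obtain ⟨a, rfl⟩ := Submodule.Quotient.mk_surjective _ a
          obtain ⟨b, rfl⟩ := Submodule.Quotient.mk_surjective _ b
          rw [Subsingleton.elim a b]⟩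
      · intro i
        exact ((isWeaklyRegular_cons_iff _ _ _).mp (hreg i)).2
      · intro i hi x hx
        obtain ⟨x, rfl⟩ := Submodule.Quotient.mk_surjective _ x
        rw [hQmk, hmk] at hx
        obtain ⟨t, ht⟩ := hx
        have h1 : d (i + 1 + 1) t = 0 := by
          apply hr0
          rw [← map_smul, ht, hdd]
        obtain ⟨s, hs⟩ := hex (i + 1) (by omega) t h1
        have h2 : d (i + 1) (x - r • s) = 0 := by
          rw [map_sub, map_smul, hs, ht, sub_self]
        obtain ⟨q, hq⟩ := hex i (by omega) _ h2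
        refine ⟨Submodule.Quotient.mk q, ?_⟩
        rw [hQmk, hq, Submodule.Quotient.mk_sub, (hmk _ (r • s)).mpr ⟨s, rfl⟩, sub_zero]
      · intro r' hr' x hx
        obtain ⟨x, rfl⟩ := Submodule.Quotient.mk_surjective _ x
        rw [hQmk, hmk] at hx
        obtain ⟨t, ht⟩ := hx
        have h1 : d (g + 1 + 1) t = 0 := by
          apply hr0
          rw [← map_smul, ht, hdd]
        obtain ⟨u', hu'⟩ := hrz r' (List.mem_cons_of_mem _ hr') t h1
        have h2 : d (g + 1) (r' • x - r • u') = 0 := by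
          rw [map_sub, map_smul, map_smul, hu', ← ht, smul_comm, sub_self]
        obtain ⟨q, hq⟩ := hex g (by omega) _ h2
        refine ⟨Submodule.Quotient.mk q, ?_⟩
        rw [hQmk, hq, Submodule.Quotient.mk_sub, (hmk _ (r • u')).mpr ⟨u', rfl⟩, sub_zero,
          Submodule.Quotient.mk_smul]
      · intro x hx
        obtain ⟨x, rfl⟩ := Submodule.Quotient.mk_surjective _ x
        rw [hQmk, hmem] at hx
        rw [← Submodule.Quotient.mk_smul, hmem]
        exact ha x hx
      · rw [hQmk, hmk]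
        exact ⟨z, hw.symm⟩
    obtain ⟨v, rfl⟩ := Submodule.Quotient.mk_surjective _ v
    rw [hQmk] at hv
    have h3 : (Submodule.Quotient.mk (a • w - d g v) : Q (g + 1)) = 0 := by
      rw [Submodule.Quotient.mk_sub, hv, Submodule.Quotient.mk_smul, sub_self]
    rw [hmk] at h3
    obtain ⟨w', hw'⟩ := h3
    refine ⟨w', ?_⟩
    have h4 : r • (d (g + 1) w' - a • z) = 0 := by
      rw [smul_sub, ← map_smul, hw', map_sub, hdd, sub_zero, map_smul, hw, smul_comm, sub_self]
    exact sub_eq_zero.mp (hr0 _ _ h4)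

section Homotopy

variable {M : ℕ → Type v} [∀ i, AddCommGroup (M i)] [∀ i, Module R (M i)] [∀ i, Module.Projective R (M i)]
  (d : ∀ i, M i →ₗ[R] M (i + 1))

omit [∀ i, Module.Projective R (M i)] in
theorem exists_lift {P : Type w} [AddCommGroup P] [Module R P] [Module.Projective R P] (i : ℕ)
    (φ : P →ₗ[R] M (i + 1)) (h : ∀ x, ∃ y, d i y = φ x) : ∃ k : P →ₗ[R] M i, ∀ x, d i (k x) = φ x := by
  obtain ⟨k, hk⟩ := Module.projective_lifting_property (d i).rangeRestrict
    (φ.codRestrict (LinearMap.range (d i)) fun x => h x) (LinearMap.surjective_rangeRestrict _)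
  refine ⟨k, fun x => ?_⟩
  have := congr(($hk x).1)
  exact this

/-- a partial null homotopy of the multiplication by `a`. -/
def Hot (a : R) (i : ℕ) : Prop :=
  ∃ (h : M (i + 1) →ₗ[R] M i) (h' : M (i + 2) →ₗ[R] M (i + 1)),
    ∀ x : M (i + 1), a • x = d i (h x) + h' (d (i + 1) x)

variable (hdd : ∀ i x, d (i + 1) (d i x) = 0)

include hdd

theorem Hot.step (a : R) (i : ℕ) (hex : ∀ x, d (i + 1) x = 0 → ∃ y, d i y = x) (H : Hot d a (i + 1)) :
    Hot d a i := by
  obtain ⟨h, h', hh⟩ := H
  obtain ⟨k, hk⟩ := exists_lift d i (a • LinearMap.id - h ∘ₗ d (i + 1)) (fun x => hex _ (by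
    have := hh (d (i + 1) x)
    rw [hdd, map_zero, add_zero] at this
    simp only [LinearMap.sub_apply, LinearMap.smul_apply, LinearMap.id_apply, LinearMap.comp_apply, map_sub, map_smul]
    rw [this, sub_self]))
  refine ⟨k, h, fun x => ?_⟩
  rw [hk]
  simp

theorem Hot.one (N : ℕ) (hN : ∀ i, N ≤ i → Subsingleton (M i)) (g : ℕ)
    (hex : ∀ i, g < i → ∀ x, d (i + 1) x = 0 → ∃ y, d i y = x) (i : ℕ) (hi : g < i) : Hot d (1 : R) i := by
  have key : ∀ m i : ℕ, g < i → N ≤ i + m → Hot d (1 : R) i := by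
    intro m
    induction m with
    | zero =>
      intro i hi hNi
      have := hN (i + 1) (by omega)
      exact ⟨0, 0, fun x => Subsingleton.elim _ _⟩
    | succ m ih =>
      intro i hi hNi
      exact Hot.step d hdd 1 i (hex i hi) (ih (i + 1) (by omega) (by omega))
  exact key N i hi (by omega)

theorem Hot.main (a : R) (N : ℕ) (hN : ∀ i, N ≤ i → Subsingleton (M i)) (g : ℕ)
    (hex : ∀ i, i ≠ g → ∀ x, d (i + 1) x = 0 → ∃ y, d i y = x)
    (ha : ∀ x, d (g + 1) x = 0 → ∃ y, d g y = a • x) : Hot d a 0 := by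
  have hg : Hot d a g := by
    obtain ⟨h, h', hh⟩ := Hot.one d hdd N hN g (fun i hi => hex i (by omega)) (g + 1) (by omega)
    obtain ⟨k, hk⟩ := exists_lift d g (a • (LinearMap.id - h ∘ₗ d (g + 1))) (fun x => ha (x - h (d (g + 1) x)) (by
      have := hh (d (g + 1) x)
      rw [hdd, map_zero, add_zero, one_smul] at this
      rw [map_sub, ← this, sub_self]))
    refine ⟨k, a • h, fun x => ?_⟩
    rw [hk]
    simp only [LinearMap.sub_apply, LinearMap.smul_apply, LinearMap.id_apply, LinearMap.comp_apply]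
    rw [← smul_add, sub_add_cancel]
  have key : ∀ m : ℕ, m ≤ g → Hot d a (g - m) := by
    intro m
    induction m with
    | zero => intro _; exact hg
    | succ m ih =>
      intro hm
      have h1 := ih (by omega)
      have h2 : g - m = g - (m + 1) + 1 := by omega
      rw [h2] at h1
      exact Hot.step d hdd a _ (hex _ (by omega)) h1
  have := key g le_rfl
  rwa [Nat.sub_self] at this

/-- The multiplication by `a` on `M 1` factors through `d 1`. -/
theorem exists_factor (a : R) (N : ℕ) (hN : ∀ i, N ≤ i → Subsingleton (M i)) (g : ℕ) (h0 : Subsingleton (M 0))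
    (hex : ∀ i, i ≠ g → ∀ x, d (i + 1) x = 0 → ∃ y, d i y = x)
    (ha : ∀ x, d (g + 1) x = 0 → ∃ y, d g y = a • x) : ∃ h : M 2 →ₗ[R] M 1, ∀ x : M 1, a • x = h (d 1 x) := by
  obtain ⟨h, h', hh⟩ := Hot.main d hdd a N hN g hex ha
  refine ⟨h', fun x => ?_⟩
  rw [hh x, Subsingleton.elim (h x) 0, map_zero, zero_add]

theorem kill_bot (a : R) (N : ℕ) (hN : ∀ i, N ≤ i → Subsingleton (M i)) (g : ℕ) (h0 : Subsingleton (M 0))
    (hex : ∀ i, i ≠ g → ∀ x, d (i + 1) x = 0 → ∃ y, d i y = x)
    (ha : ∀ x, d (g + 1) x = 0 → ∃ y, d g y = a • x) (W : Type w) [AddCommGroup W] [Module R W]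
    (z : W ⊗[R] M 1) (hz : (d 1).lTensor W z = 0) : a • z = 0 := by
  obtain ⟨h, hh⟩ := exists_factor d hdd a N hN g h0 hex ha
  have h1 : a • (LinearMap.id : M 1 →ₗ[R] M 1) = h ∘ₗ d 1 := LinearMap.ext hh
  have h2 : a • z = (a • (LinearMap.id : M 1 →ₗ[R] M 1)).lTensor W z := by
    rw [LinearMap.lTensor_smul, LinearMap.lTensor_id]
    rfl
  rw [h2, h1, LinearMap.lTensor_comp, LinearMap.comp_apply, hz, map_zero]

end Homotopy

end K529.TopAlg
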