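import Groth.Prelude.Def_ega3
import Groth.Agent.AbVar.K529.TopAlg
import Groth.Agent.AbVar.K524.AcycCx
import Groth.Agent.Ega3A.ExtScal
import Groth.Agent.Smoothlim.PowRegular
import Mathlib.RingTheory.Flat.Basic
import Mathlib.RingTheory.Flat.Localization
import Mathlib.RingTheory.Localization.BaseChange
import Mathlib.RingTheory.LocalRing.Module

/-!
# Algebra for the top direct image: complexes of finite flat modules

`P` a complex of finite flat modules over a Noetherian ring in non-positive (homological) degrees.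
* `forall_smul_homology_iff`: an element kills the homology iff it maps cycles to boundaries.
* `kill_homology`: `H_{-p}(P) = 0` for `p < g`, `x` a prime with a weakly regular sequence of length `g` in the local ring,
  whose elements are locally nilpotent on `H_{-g}(P)`: if `a` kills `H_0(P ⊗ B)` for all algebras `B` over the local
  ring, then `a` kills `H_{-g}(P)_x`.
* `kill_T0`: if `H_{-p}(P) = 0` for `p ≠ g` and `a` kills `H_{-g}(P)` then `a` kills `H_0(P ⊗ W)` for every `W`.
-/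

set_option autoImplicit false

universe u

namespace K529.TopCx

open CategoryTheory CategoryTheory.Limits RingTheory.Sequence TensorProduct

section Rep

variable {A : Type u} [CommRing A]

/-- `a` kills the homology of a short complex iff it maps cycles to boundaries. -/
theorem forall_smul_sc_iff (S : ShortComplex (ModuleCat.{u} A)) (a : A) :
    (∀ m : S.homology, a • m = 0) ↔ ∀ z : S.X₂, S.g.hom z = 0 → ∃ w : S.X₁, S.f.hom w = a • z := by
  let e : S.homology ≃ₗ[A] (LinearMap.ker S.g.hom ⧸ LinearMap.range S.moduleCatToCycles) :=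
    S.moduleCatHomologyIso.toLinearEquiv
  constructor
  · intro h z hz
    have h1 : a • e.symm ((LinearMap.range S.moduleCatToCycles).mkQ (⟨z, hz⟩ : LinearMap.ker S.g.hom)) = 0 := h _
    rw [← map_smul, ← map_smul, LinearEquiv.map_eq_zero_iff, Submodule.mkQ_apply, Submodule.Quotient.mk_eq_zero] at h1
    obtain ⟨w, hw⟩ := h1
    exact ⟨w, congrArg Subtype.val hw⟩
  · intro h m
    obtain ⟨⟨z, hz⟩, hzm⟩ := Submodule.mkQ_surjective (LinearMap.range S.moduleCatToCycles) (e m)
    obtain ⟨w, hw⟩ := h z hz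
    rw [← LinearEquiv.map_eq_zero_iff e, map_smul, ← hzm, ← map_smul, Submodule.mkQ_apply,
      Submodule.Quotient.mk_eq_zero]
    exact ⟨w, Subtype.ext hw⟩

theorem forall_smul_homology_iff {ι : Type*} {c : ComplexShape ι} (P : HomologicalComplex (ModuleCat.{u} A) c)
    (i j k : ι) (hi : c.prev j = i) (hk : c.next j = k) (a : A) :
    (∀ m : P.homology j, a • m = 0) ↔ ∀ z : P.X j, (P.d j k).hom z = 0 → ∃ w : P.X i, (P.d i j).hom w = a • z := by
  subst hi hk
  exact forall_smul_sc_iff (P.sc j) a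

theorem subsingleton_homology_iff {ι : Type*} {c : ComplexShape ι} (P : HomologicalComplex (ModuleCat.{u} A) c)
    (i j k : ι) (hi : c.prev j = i) (hk : c.next j = k) :
    Subsingleton (P.homology j) ↔ ∀ z : P.X j, (P.d j k).hom z = 0 → ∃ w : P.X i, (P.d i j).hom w = z := by
  have h := forall_smul_homology_iff P i j k hi hk 1
  simp only [one_smul] at h
  rw [← h]
  exact ⟨fun h m => Subsingleton.elim _ _, fun h => ⟨fun a b => by rw [h a, h b]⟩⟩

/-- The class of a cycle. -/
theorem exists_cls_sc (S : ShortComplex (ModuleCat.{u} A)) :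
    ∃ cls : LinearMap.ker S.g.hom →ₗ[A] S.homology, Function.Surjective cls ∧
      ∀ z, cls z = 0 ↔ ∃ w : S.X₁, S.f.hom w = z := by
  let e : S.homology ≃ₗ[A] (LinearMap.ker S.g.hom ⧸ LinearMap.range S.moduleCatToCycles) :=
    S.moduleCatHomologyIso.toLinearEquiv
  refine ⟨e.symm.toLinearMap ∘ₗ (LinearMap.range S.moduleCatToCycles).mkQ,
    e.symm.surjective.comp (Submodule.mkQ_surjective _), fun z => ?_⟩
  rw [LinearMap.comp_apply, LinearEquiv.coe_coe, LinearEquiv.map_eq_zero_iff, Submodule.mkQ_apply,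
    Submodule.Quotient.mk_eq_zero]
  constructor
  · rintro ⟨w, hw⟩
    exact ⟨w, congrArg Subtype.val hw⟩
  · rintro ⟨w, hw⟩
    exact ⟨w, Subtype.ext hw⟩

theorem exists_cls {ι : Type*} {c : ComplexShape ι} (P : HomologicalComplex (ModuleCat.{u} A) c)
    (i j k : ι) (hi : c.prev j = i) (hk : c.next j = k) :
    ∃ cls : LinearMap.ker (P.d j k).hom →ₗ[A] P.homology j, Function.Surjective cls ∧
      ∀ z, cls z = 0 ↔ ∃ w : P.X i, (P.d i j).hom w = z := by
  subst hi hk
  exact exists_cls_sc (P.sc j)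

end Rep

section Cx

variable {R : Type u} [CommRing R] (P : ChainComplex (ModuleCat.{u} R) ℤ)

/-- the modules, indexed by `ℕ` -/
abbrev C (i : ℕ) : Type u := P.X (1 - (i : ℤ))

/-- the differentials -/
def δ (i : ℕ) : C P i →ₗ[R] C P (i + 1) := (P.d (1 - (i : ℤ)) (1 - ((i + 1 : ℕ) : ℤ))).hom

theorem δ_δ (i : ℕ) (x : C P i) : δ P (i + 1) (δ P i x) = 0 :=
  ConcreteCategory.congr_hom (P.d_comp_d (1 - (i : ℤ)) (1 - ((i + 1 : ℕ) : ℤ)) (1 - ((i + 1 + 1 : ℕ) : ℤ))) x

theorem rel (i : ℕ) : (ComplexShape.down ℤ).Rel (1 - (i : ℤ)) (1 - ((i + 1 : ℕ) : ℤ)) := by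
  rw [ComplexShape.down_Rel]
  push_cast
  ring

theorem kill_iff (p : ℕ) (a : R) : (∀ m : P.homology (-(p : ℤ)), a • m = 0) ↔
    ∀ z : C P (p + 1), δ P (p + 1) z = 0 → ∃ w, δ P p w = a • z := by
  have e : (1 - ((p + 1 : ℕ) : ℤ)) = -(p : ℤ) := by push_cast; ring
  have h := forall_smul_homology_iff P (1 - (p : ℤ)) (1 - ((p + 1 : ℕ) : ℤ)) (1 - ((p + 1 + 1 : ℕ) : ℤ))
    (ComplexShape.prev_eq' _ (rel p)) (ComplexShape.next_eq' _ (rel (p + 1))) a
  rw [← e]
  exact h

theorem exact_iff (p : ℕ) : Subsingleton (P.homology (-(p : ℤ))) ↔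
    ∀ z : C P (p + 1), δ P (p + 1) z = 0 → ∃ w, δ P p w = z := by
  have h := kill_iff P p 1
  simp only [one_smul] at h
  rw [← h]
  exact ⟨fun h m => Subsingleton.elim _ _, fun h => ⟨fun a b => by rw [h a, h b]⟩⟩

theorem tensor_d (W : ModuleCat.{u} R) (i j : ℤ) :
    ((CohIII.tensorObj P W).d i j).hom = LinearMap.rTensor W (P.d i j).hom :=
  TensorProduct.ext' fun _ _ => rfl

theorem comm_lTensor (W : ModuleCat.{u} R) (z : W ⊗[R] (C P 1)) :
    LinearMap.rTensor W (δ P 1) (TensorProduct.comm R W (C P 1) z) =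
      TensorProduct.comm R W (C P 2) ((δ P 1).lTensor W z) := by
  induction z using TensorProduct.induction_on with
  | zero => simp only [map_zero]
  | add x y hx hy => simp only [map_add, hx, hy]
  | tmul w c => rfl

/-- `a` kills `H_0(P ⊗ W)` iff it kills the kernel of `W ⊗ C 1 → W ⊗ C 2`. -/
theorem kill_T0_iff (hpos : ∀ i, 0 < i → IsZero (P.X i)) (W : ModuleCat.{u} R) (a : R) :
    (∀ m : CohIII.T P 0 W, a • m = 0) ↔
      ∀ z : W ⊗[R] (C P 1), (δ P 1).lTensor W z = 0 → a • z = 0 := by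
  have e : (1 - ((0 + 1 : ℕ) : ℤ)) = 0 := by simp
  have h := forall_smul_homology_iff (CohIII.tensorObj P W) (1 - ((0 : ℕ) : ℤ)) (1 - ((0 + 1 : ℕ) : ℤ))
    (1 - ((0 + 1 + 1 : ℕ) : ℤ))
    (ComplexShape.prev_eq' _ (rel 0)) (ComplexShape.next_eq' _ (rel (0 + 1))) a
  have h1 : (∀ m : CohIII.T P 0 W, a • m = 0) ↔ (∀ m : (CohIII.tensorObj P W).homology (1 - ((0 + 1 : ℕ) : ℤ)),
      a • m = 0) := by
    rw [e]
  rw [h1, h, tensor_d, tensor_d]
  have h0 : Subsingleton (P.X (1 - ((0 : ℕ) : ℤ)) ⊗[R] W) := by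
    have h2 : IsZero (P.X (1 - ((0 : ℕ) : ℤ))) := hpos _ (by simp)
    have h3 : Subsingleton (P.X (1 - ((0 : ℕ) : ℤ))) := ModuleCat.subsingleton_of_isZero h2
    exact ⟨fun x y => by
      have key : ∀ z : P.X (1 - ((0 : ℕ) : ℤ)) ⊗[R] W, z = 0 := by
        intro z
        induction z using TensorProduct.induction_on with
        | zero => rfl
        | add x y hx hy => rw [hx, hy, add_zero]
        | tmul c w => rw [Subsingleton.elim c 0, TensorProduct.zero_tmul]
      rw [key x, key y]⟩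
  constructor
  · intro H z hz
    obtain ⟨w, hw⟩ := H (TensorProduct.comm R W (C P 1) z) (by
      refine (comm_lTensor P W z).trans ?_
      rw [hz]
      exact map_zero _)
    have h4 : w = 0 := h0.elim _ _
    rw [h4, map_zero] at hw
    have h5 : TensorProduct.comm R W (C P 1) (a • z) = 0 := by
      rw [map_smul]
      exact hw.symm
    exact (LinearEquiv.map_eq_zero_iff _).mp h5
  · intro H z hz
    obtain ⟨z', rfl⟩ := (TensorProduct.comm R W (C P 1)).surjective z
    refine ⟨0, ?_⟩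
    have h6 := H z' ((LinearEquiv.map_eq_zero_iff (TensorProduct.comm R W (C P 2))).mp
      ((comm_lTensor P W z').symm.trans hz))
    have h7 : TensorProduct.comm R W (C P 1) (a • z') = 0 := by rw [h6, map_zero]
    rw [map_smul] at h7
    rw [map_zero]
    exact h7.symm

end Cx

section Loc

variable {R : Type u} [CommRing R]

/-- The kernel of `S ⊗ M → (S / I) ⊗ M` is `I (S ⊗ M)`. -/
theorem mem_smul_of_map_eq_zero {S : Type u} [CommRing S] [Algebra R S] (I : Ideal S) {M : Type u} [AddCommGroup M]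
    [Module R M] (z : S ⊗[R] M)
    (hz : LinearMap.rTensor M (Ideal.Quotient.mkₐ R I).toLinearMap z = 0) :
    z ∈ (I • (⊤ : Submodule S (S ⊗[R] M))) := by
  have h1 : Function.Exact (I.restrictScalars R).subtype (Ideal.Quotient.mkₐ R I).toLinearMap := by
    intro y
    change Ideal.Quotient.mk I y = 0 ↔ _
    rw [Ideal.Quotient.eq_zero_iff_mem]
    exact ⟨fun h => ⟨⟨y, h⟩, rfl⟩, fun ⟨w, hw⟩ => hw ▸ w.2⟩
  obtain ⟨w, rfl⟩ := ((rTensor_exact M h1 Ideal.Quotient.mk_surjective) z).mp hz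
  induction w using TensorProduct.induction_on with
  | zero => rw [map_zero]; exact zero_mem _
  | add x y hx hy =>
    rw [map_add]
    refine add_mem (hx ?_) (hy ?_)
    · exact (rTensor_exact M h1 Ideal.Quotient.mk_surjective).apply_apply_eq_zero x
    · exact (rTensor_exact M h1 Ideal.Quotient.mk_surjective).apply_apply_eq_zero y
  | tmul i m =>
    rw [LinearMap.rTensor_tmul]
    have : ((I.restrictScalars R).subtype i) ⊗ₜ[R] m = (i : S) • ((1 : S) ⊗ₜ[R] m) := by
      rw [TensorProduct.smul_tmul', smul_eq_mul, mul_one]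
      rfl
    rw [this]
    exact Submodule.smul_mem_smul i.2 trivial

theorem map_eq_zero_of_mem_smul {S : Type u} [CommRing S] [Algebra R S] (I : Ideal S) {M : Type u} [AddCommGroup M]
    [Module R M] (z : S ⊗[R] M) (hz : z ∈ (I • (⊤ : Submodule S (S ⊗[R] M)))) :
    LinearMap.rTensor M (Ideal.Quotient.mkₐ R I).toLinearMap z = 0 := by
  induction hz using Submodule.smul_induction_on' with
  | smul i hi w _ =>
    induction w using TensorProduct.induction_on with
    | zero => rw [smul_zero, map_zero]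
    | add x y hx hy => rw [smul_add, map_add, hx trivial, hy trivial, add_zero]
    | tmul s m =>
      rw [TensorProduct.smul_tmul', LinearMap.rTensor_tmul]
      have : (Ideal.Quotient.mkₐ R I).toLinearMap (i • s) = 0 := by
        change Ideal.Quotient.mk I (i • s) = 0
        rw [Ideal.Quotient.eq_zero_iff_mem]
        exact I.mul_mem_right s hi
      rw [this, TensorProduct.zero_tmul]
  | add x _ y _ hx hy => rw [map_add, hx, hy, add_zero]

variable (P : ChainComplex (ModuleCat.{u} R) ℤ)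

theorem kill_localized (hflat : ∀ i, Module.Flat R (P.X i)) (hpos : ∀ i, 0 < i → IsZero (P.X i)) (g : ℕ)
    (hex : ∀ p : ℕ, p < g → Subsingleton (P.homology (-(p : ℤ))))
    (x : Ideal R) [x.IsPrime]
    (rs : List (Localization.AtPrime x)) (hrs : rs.length = g)
    (hmem : ∀ r ∈ rs, r ∈ IsLocalRing.maximalIdeal (Localization.AtPrime x))
    (hreg : IsWeaklyRegular (Localization.AtPrime x) rs)
    (N : ℕ) (hN : ∀ b ∈ x, ∀ m : P.homology (-(g : ℤ)), b ^ N • m = 0)
    (a : R)
    (ha : ∀ (I : Ideal (Localization.AtPrime x)) (m : CohIII.T P 0 (ModuleCat.of R (Localization.AtPrime x ⧸ I))),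
      a • m = 0)
    (m : P.homology (-(g : ℤ))) : ∃ s : R, s ∉ x ∧ s • a • m = 0 := by
  let S := Localization.AtPrime x
  let f : ∀ i, C P i →ₗ[R] S ⊗[R] C P i := fun i => TensorProduct.mk R S (C P i) 1
  have hloc : ∀ i, IsLocalizedModule x.primeCompl (f i) := fun i =>
    (isLocalizedModule_iff_isBaseChange x.primeCompl S _).mpr (TensorProduct.isBaseChange R (C P i) S)
  let d : ∀ i, S ⊗[R] C P i →ₗ[S] S ⊗[R] C P (i + 1) := fun i => (δ P i).baseChange S
  have hdf : ∀ i w, d i (f i w) = f (i + 1) (δ P i w) := fun i w => rfl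
  have hdl : ∀ i (w : S ⊗[R] C P i), d i w = (δ P i).lTensor S w := fun i w => rfl
  -- cycles
  have hcyc : ∀ i (z : S ⊗[R] C P i), d i z = 0 → ∃ (t : x.primeCompl) (z1 : C P i), δ P i z1 = 0 ∧ t • z = f i z1 := by
    intro i z hz
    obtain ⟨⟨z0, s⟩, hs⟩ := IsLocalizedModule.surj x.primeCompl (f i) z
    have h1 : f (i + 1) (δ P i z0) = 0 := by
      rw [← hdf, ← hs]
      change d i ((s : R) • z) = 0
      rw [← algebraMap_smul S (s : R) z, map_smul, hz, smul_zero]
    obtain ⟨t, ht⟩ := (IsLocalizedModule.eq_zero_iff x.primeCompl (f (i + 1))).mp h1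
    refine ⟨t * s, t • z0, ?_, ?_⟩
    · have : δ P i (t • z0) = t • δ P i z0 := map_smul (δ P i) (t : R) z0
      rw [this, ht]
    · rw [mul_smul]
      have : f i (t • z0) = t • f i z0 := map_smul (f i) (t : R) z0
      rw [this, ← hs]
  have hunit : ∀ t : x.primeCompl, IsUnit (algebraMap R S t) := fun t => IsLocalization.map_units S t
  -- exactness below `g`
  have hexd : ∀ i, i < g → ∀ z, d (i + 1) z = 0 → ∃ y, d i y = z := by
    intro i hi z hz
    have h1 : Function.Exact (δ P i) (δ P (i + 1)) := by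
      intro w
      constructor
      · intro hw
        obtain ⟨v, hv⟩ := (exact_iff P i).mp (hex i hi) w hw
        exact ⟨v, hv⟩
      · rintro ⟨v, rfl⟩
        exact δ_δ P i v
    obtain ⟨y, hy⟩ := (Module.Flat.lTensor_exact S h1 z).mp hz
    exact ⟨y, hy⟩
  have h0 : Subsingleton (S ⊗[R] C P 0) := by
    have h3 : Subsingleton (C P 0) := ModuleCat.subsingleton_of_isZero (hpos _ (by simp))
    exact ⟨fun u v => by
      have key : ∀ z : S ⊗[R] C P 0, z = 0 := by
        intro z
        induction z using TensorProduct.induction_on with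
        | zero => rfl
        | add x y hx hy => rw [hx, hy, add_zero]
        | tmul c w => rw [Subsingleton.elim w 0, TensorProduct.tmul_zero]
      rw [key u, key v]⟩
  have hdd : ∀ i z, d (i + 1) (d i z) = 0 := by
    intro i z
    induction z using TensorProduct.induction_on with
    | zero => simp only [map_zero]
    | add x y hx hy => rw [map_add, map_add, hx, hy, add_zero]
    | tmul c w =>
      change c ⊗ₜ[R] (δ P (i + 1) (δ P i w)) = 0
      rw [δ_δ, TensorProduct.tmul_zero]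
  obtain ⟨z, hz, hzm⟩ : ∃ z : C P (g + 1), δ P (g + 1) z = 0 ∧
      ∀ s : R, s • m = 0 ↔ ∃ w, δ P g w = s • z := by
    have e : (1 - ((g + 1 : ℕ) : ℤ)) = -(g : ℤ) := by push_cast; ring
    have key : ∀ m' : P.homology (1 - ((g + 1 : ℕ) : ℤ)), ∃ z : C P (g + 1), δ P (g + 1) z = 0 ∧
        ∀ s : R, s • m' = 0 ↔ ∃ w, δ P g w = s • z := fun m' =>
      K524.AcycCx.rep P (1 - (g : ℤ)) (1 - ((g + 1 : ℕ) : ℤ)) (1 - ((g + 1 + 1 : ℕ) : ℤ))
        (ComplexShape.prev_eq' _ (rel g)) (ComplexShape.next_eq' _ (rel (g + 1))) m'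
    have key2 : ∀ m' : P.homology (-(g : ℤ)), ∃ z : C P (g + 1), δ P (g + 1) z = 0 ∧
        ∀ s : R, s • m' = 0 ↔ ∃ w, δ P g w = s • z := by
      rw [← e]
      exact key
    exact key2 m
  obtain ⟨y, hy⟩ := TopAlg.kill_top (R := S) (algebraMap R S a) g (fun i => S ⊗[R] C P i) d hdd h0
    (rs.map fun r => r ^ (N + 1)) (by rw [List.length_map, hrs]) (fun i => by
      have h1 : IsWeaklyRegular S (rs.map fun r => r ^ (N + 1)) := by
        have := Groth.Agent.Smoothlim.PowRegular.isWeaklyRegular_map_pow_append rs [] N (M := S) (by rwa [List.append_nil])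
        rwa [List.append_nil] at this
      have := hflat (1 - (i : ℤ))
      have h3 := h1.isWeaklyRegular_lTensor (M₂ := S ⊗[R] C P i)
      exact ((TensorProduct.rid S (S ⊗[R] C P i)).isWeaklyRegular_congr _).mp h3) hexd
    (by
      intro r hr z hz
      obtain ⟨r0, hr0, rfl⟩ := List.mem_map.mp hr
      obtain ⟨b, s, rfl⟩ := IsLocalization.exists_mk'_eq x.primeCompl r0
      have hb : b ∈ x := by
        have := (IsLocalization.AtPrime.mk'_mem_maximal_iff (Localization.AtPrime x) x b s).mp (hmem _ hr0)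
        exact this
      obtain ⟨t, z1, hz1, htz⟩ := hcyc (g + 1) z hz
      obtain ⟨w, hw⟩ := (kill_iff P g (b ^ N)).mp (hN b hb) z1 hz1
      let u := t * s ^ (N + 1)
      have h1 : algebraMap R S u • (IsLocalization.mk' S b s ^ (N + 1) • z) = d g (f g (b • w)) := by
        rw [hdf, map_smul, hw, smul_smul b (b ^ N) z1, ← pow_succ', map_smul, ← htz, smul_smul]
        have h2 : algebraMap R S u * IsLocalization.mk' S b s ^ (N + 1) = algebraMap R S (b ^ (N + 1)) * algebraMap R S t := by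
          have h3 : algebraMap R S s * IsLocalization.mk' S b s = algebraMap R S b := IsLocalization.mk'_spec' S b s
          have h4 : algebraMap R S u = algebraMap R S t * algebraMap R S s ^ (N + 1) := by
            rw [← map_pow, ← map_mul]
            rfl
          rw [h4, mul_assoc, ← mul_pow, h3, map_pow, mul_comm]
        rw [h2, mul_smul, algebraMap_smul, algebraMap_smul]
        rfl
      obtain ⟨v, hv⟩ := hunit u
      refine ⟨(↑v⁻¹ : S) • f g (b • w), ?_⟩
      rw [map_smul, ← h1, smul_smul, ← hv, Units.inv_mul, one_smul])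
    (by
      intro z hz
      have h1 : LinearMap.rTensor (C P 2) (Ideal.Quotient.mkₐ R (Ideal.ofList (rs.map fun r => r ^ (N + 1)))).toLinearMap
          (d 1 z) = 0 := map_eq_zero_of_mem_smul _ _ hz
      have h2 : (δ P 1).lTensor (S ⧸ Ideal.ofList (rs.map fun r => r ^ (N + 1)))
          (LinearMap.rTensor (C P 1) (Ideal.Quotient.mkₐ R (Ideal.ofList (rs.map fun r => r ^ (N + 1)))).toLinearMap z) =
          0 := by
        rw [← h1, hdl, ← LinearMap.comp_apply, ← LinearMap.comp_apply, LinearMap.lTensor_comp_rTensor,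
          LinearMap.rTensor_comp_lTensor]
      have h3 := (kill_T0_iff P hpos (ModuleCat.of R (S ⧸ Ideal.ofList (rs.map fun r => r ^ (N + 1)))) a).mp
        (ha _) _ h2
      apply mem_smul_of_map_eq_zero
      rw [algebraMap_smul, map_smul]
      exact h3)
    (f (g + 1) z) (by rw [hdf, hz, map_zero])
  -- descend
  obtain ⟨⟨y0, s⟩, hs⟩ := IsLocalizedModule.surj x.primeCompl (f g) y
  have h1 : f (g + 1) (δ P g y0) = f (g + 1) ((s : R) • a • z) := by
    rw [← hdf, ← hs, map_smul (f (g + 1)), map_smul (f (g + 1)), ← algebraMap_smul S a (f (g + 1) z), ← hy]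
    change d g ((s : R) • y) = (s : R) • d g y
    rw [← algebraMap_smul S (s : R) y, map_smul, algebraMap_smul]
  obtain ⟨t, ht⟩ := (IsLocalizedModule.eq_iff_exists x.primeCompl (f (g + 1))).mp h1
  refine ⟨t * s, (t * s).2, ?_⟩
  rw [smul_smul, hzm]
  refine ⟨t • y0, ?_⟩
  have h2 : δ P g (t • y0) = t • δ P g y0 := map_smul (δ P g) (t : R) y0
  rw [h2, ht]
  change (t : R) • (s : R) • a • z = _
  rw [smul_smul, smul_smul]

end Loc

section Bot

variable {R : Type u} [CommRing R] [IsNoetherianRing R] (P : ChainComplex (ModuleCat.{u} R) ℤ)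

theorem projective_C (hfin : ∀ i, Module.Finite R (P.X i)) (hflat : ∀ i, Module.Flat R (P.X i)) (i : ℕ) :
    Module.Projective R (C P i) := by
  have := hfin (1 - (i : ℤ))
  have := hflat (1 - (i : ℤ))
  have : Module.FinitePresentation R (P.X (1 - (i : ℤ))) := Module.finitePresentation_of_finite R _
  exact Module.Flat.projective_of_finitePresentation

/-- If `H_{-p}(P) = 0` for `p ≠ g` and `a` kills `H_{-g}(P)`, then `a` kills `H_0(P ⊗ W)`. -/
theorem kill_T0 (hfin : ∀ i, Module.Finite R (P.X i)) (hflat : ∀ i, Module.Flat R (P.X i))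
    (hpos : ∀ i, 0 < i → IsZero (P.X i)) (b : ℤ) (hb : ∀ i, i < b → IsZero (P.X i)) (g : ℕ)
    (hex : ∀ p : ℕ, p ≠ g → Subsingleton (P.homology (-(p : ℤ)))) (a : R)
    (ha : ∀ m : P.homology (-(g : ℤ)), a • m = 0) (W : ModuleCat.{u} R) (m : CohIII.T P 0 W) : a • m = 0 := by
  have hproj := projective_C P hfin hflat
  refine (kill_T0_iff P hpos W a).mpr (fun z hz => ?_) m
  refine TopAlg.kill_bot (M := C P) (δ P) (δ_δ P) a (1 - b + 1).toNat (fun i hi => ?_) g ?_ (fun i hi => ?_) ?_ W z hz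
  · exact ModuleCat.subsingleton_of_isZero (hb _ (by omega))
  · exact ModuleCat.subsingleton_of_isZero (hpos _ (by simp))
  · exact (exact_iff P i).mp (hex i hi)
  · exact (kill_iff P g a).mp ha

/-- A retraction of the module in degree `g` onto the cycles. -/
theorem exists_retraction (hfin : ∀ i, Module.Finite R (P.X i)) (hflat : ∀ i, Module.Flat R (P.X i))
    (b : ℤ) (hb : ∀ i, i < b → IsZero (P.X i)) (g : ℕ)
    (hex : ∀ p : ℕ, g < p → Subsingleton (P.homology (-(p : ℤ)))) :
    ∃ π : C P (g + 1) →ₗ[R] C P (g + 1), (∀ z, δ P (g + 1) (π z) = 0) ∧ ∀ z, δ P (g + 1) z = 0 → π z = z := by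
  have hproj := projective_C P hfin hflat
  obtain ⟨h, h', hh⟩ := TopAlg.Hot.one (M := C P) (δ P) (δ_δ P) (1 - b + 1).toNat
    (fun i hi => ModuleCat.subsingleton_of_isZero (hb _ (by omega))) g
    (fun i hi => (exact_iff P i).mp (hex i hi)) (g + 1) (by omega)
  refine ⟨LinearMap.id - h ∘ₗ δ P (g + 1), fun z => ?_, fun z hz => ?_⟩
  · have := hh (δ P (g + 1) z)
    rw [δ_δ, map_zero, add_zero, one_smul] at this
    rw [LinearMap.sub_apply, LinearMap.id_apply, LinearMap.comp_apply, map_sub, ← this, sub_self]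
  · rw [LinearMap.sub_apply, LinearMap.id_apply, LinearMap.comp_apply, hz, map_zero, sub_zero]

omit [IsNoetherianRing R]

/-- `1 ⊗ z` in the base change to the residue field. -/
noncomputable def one (x : PrimeSpectrum R) (M : ModuleCat.{u} R) (z : M) :
    (ModuleCat.extendScalars (algebraMap R x.asIdeal.ResidueField)).obj M :=
  (1 : x.asIdeal.ResidueField) ⊗ₜ[R] z

theorem ext_d (x : PrimeSpectrum R) (i j : ℤ) (z : P.X i) :
    ((CohIII.bcCx (algebraMap R x.asIdeal.ResidueField) P).d i j).hom (one x (P.X i) z) = one x (P.X j) ((P.d i j).hom z) :=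
  rfl

open Groth.Agent.Ega3A.ExtScal in
theorem extEquiv_one (x : PrimeSpectrum R) (M : ModuleCat.{u} R) (z : M) :
    extEquiv M (one x M z) = (1 : x.asIdeal.ResidueField) ⊗ₜ[R] z := rfl

theorem exists_one (x : PrimeSpectrum R) [hx : x.asIdeal.IsMaximal] (M : ModuleCat.{u} R)
    (w : (ModuleCat.extendScalars (algebraMap R x.asIdeal.ResidueField)).obj M) : ∃ z, w = one x M z := by
  have key : ∀ w : x.asIdeal.ResidueField ⊗[R] M, ∃ z : M, w = (1 : x.asIdeal.ResidueField) ⊗ₜ[R] z := by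
    intro w
    induction w using TensorProduct.induction_on with
    | zero => exact ⟨0, by rw [TensorProduct.tmul_zero]⟩
    | add a b ha hb =>
      obtain ⟨a, rfl⟩ := ha
      obtain ⟨b, rfl⟩ := hb
      exact ⟨a + b, by rw [TensorProduct.tmul_add]⟩
    | tmul c m =>
      obtain ⟨r, rfl⟩ := Ideal.algebraMap_residueField_surjective x.asIdeal c
      refine ⟨r • m, ?_⟩
      rw [TensorProduct.tmul_smul, TensorProduct.smul_tmul', Algebra.smul_def, mul_one]
  obtain ⟨z, hz⟩ := key (Groth.Agent.Ega3A.ExtScal.extEquiv M w)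
  refine ⟨z, (Groth.Agent.Ega3A.ExtScal.extEquiv M).injective ?_⟩
  rw [hz, extEquiv_one]

theorem one_smul' (x : PrimeSpectrum R) (M : ModuleCat.{u} R) (r : R) (z : M) :
    one x M (r • z) = algebraMap R x.asIdeal.ResidueField r • one x M z := by
  apply (Groth.Agent.Ega3A.ExtScal.extEquiv M).injective
  rw [map_smul, extEquiv_one, extEquiv_one, TensorProduct.tmul_smul, algebraMap_smul]

theorem one_zero' (x : PrimeSpectrum R) (M : ModuleCat.{u} R) : one x M 0 = 0 := by
  apply (Groth.Agent.Ega3A.ExtScal.extEquiv M).injective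
  rw [map_zero, extEquiv_one, TensorProduct.tmul_zero]

theorem one_sub (x : PrimeSpectrum R) (M : ModuleCat.{u} R) (y z : M) :
    one x M (y - z) = one x M y - one x M z := by
  apply (Groth.Agent.Ega3A.ExtScal.extEquiv M).injective
  rw [map_sub, extEquiv_one, extEquiv_one, extEquiv_one, TensorProduct.tmul_sub]

theorem mem_of_one_eq_zero (x : PrimeSpectrum R) [hx : x.asIdeal.IsMaximal] (M : ModuleCat.{u} R) (z : M)
    (hz : one x M z = 0) : z ∈ (x.asIdeal • (⊤ : Submodule R M)) := by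
  have h0 : (1 : x.asIdeal.ResidueField) ⊗ₜ[R] z = 0 := by
    rw [← extEquiv_one, hz, map_zero]
  have h1 : Function.Exact (x.asIdeal.subtype) (Algebra.linearMap R x.asIdeal.ResidueField) := by
    intro y
    change algebraMap R x.asIdeal.ResidueField y = 0 ↔ _
    rw [Ideal.algebraMap_residueField_eq_zero]
    exact ⟨fun h => ⟨⟨y, h⟩, rfl⟩, fun ⟨w, hw⟩ => hw ▸ w.2⟩
  obtain ⟨w, hw⟩ := ((rTensor_exact M h1 (Ideal.algebraMap_residueField_surjective x.asIdeal))
    ((1 : R) ⊗ₜ[R] z)).mp (by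
      rw [LinearMap.rTensor_tmul, Algebra.linearMap_apply, map_one]
      exact h0)
  have h2 : ∀ w : x.asIdeal ⊗[R] M, TensorProduct.lid R M (LinearMap.rTensor M x.asIdeal.subtype w) ∈
      (x.asIdeal • (⊤ : Submodule R M)) := by
    intro w
    induction w using TensorProduct.induction_on with
    | zero => rw [map_zero, map_zero]; exact zero_mem _
    | add a b ha hb => rw [map_add, map_add]; exact add_mem ha hb
    | tmul i m =>
      rw [LinearMap.rTensor_tmul, TensorProduct.lid_tmul]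
      exact Submodule.smul_mem_smul i.2 trivial
  have h3 := h2 w
  rw [hw, TensorProduct.lid_tmul, one_smul] at h3
  exact h3

end Bot

section Cyc

variable {R : Type u} [CommRing R] [IsNoetherianRing R] (P : ChainComplex (ModuleCat.{u} R) ℤ)

/-- If `H_{-p}(P) = 0` for `p > g`, `x` is a maximal ideal nilpotent on `H_{-g}(P)` and `dim H_{-g}(P ⊗ k(x)) = 1`, then
`H_{-g}(P)` is cyclic. -/
theorem exists_generator (hfin : ∀ i, Module.Finite R (P.X i)) (hflat : ∀ i, Module.Flat R (P.X i))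
    (b : ℤ) (hb : ∀ i, i < b → IsZero (P.X i)) (g : ℕ)
    (hex : ∀ p : ℕ, g < p → Subsingleton (P.homology (-(p : ℤ)))) (x : PrimeSpectrum R) [hx : x.asIdeal.IsMaximal]
    (N : ℕ) (hN : ∀ r ∈ x.asIdeal ^ N, ∀ m : P.homology (-(g : ℤ)), r • m = 0)
    (hrank : CohIII.dRank P (-(g : ℤ)) x = 1) :
    ∃ m : P.homology (-(g : ℤ)), ∀ m', ∃ r : R, m' = r • m := by
  obtain ⟨π, hπ1, hπ2⟩ := exists_retraction P hfin hflat b hb g hex
  have e : (1 - ((g + 1 : ℕ) : ℤ)) = -(g : ℤ) := by push_cast; ring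
  rw [← e] at hN hrank ⊢
  let H : ModuleCat.{u} R := P.homology (1 - ((g + 1 : ℕ) : ℤ))
  let H' := (CohIII.bcCx (algebraMap R x.asIdeal.ResidueField) P).homology (1 - ((g + 1 : ℕ) : ℤ))
  let J : Submodule R H := x.asIdeal • ⊤
  let D := (P.d (1 - ((g + 1 : ℕ) : ℤ)) (1 - ((g + 1 + 1 : ℕ) : ℤ))).hom
  let D' := ((CohIII.bcCx (algebraMap R x.asIdeal.ResidueField) P).d (1 - ((g + 1 : ℕ) : ℤ))
    (1 - ((g + 1 + 1 : ℕ) : ℤ))).hom
  obtain ⟨cls, hcls, hcls0⟩ : ∃ cls : LinearMap.ker D →ₗ[R] H, Function.Surjective cls ∧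
      ∀ z, cls z = 0 ↔ ∃ w : P.X (1 - (g : ℤ)), (P.d (1 - (g : ℤ)) (1 - ((g + 1 : ℕ) : ℤ))).hom w = z :=
    exists_cls P (1 - (g : ℤ)) (1 - ((g + 1 : ℕ) : ℤ)) (1 - ((g + 1 + 1 : ℕ) : ℤ))
      (ComplexShape.prev_eq' _ (rel g)) (ComplexShape.next_eq' _ (rel (g + 1)))
  obtain ⟨cls', hcls', hcls0'⟩ : ∃ cls : LinearMap.ker D' →ₗ[x.asIdeal.ResidueField] H', Function.Surjective cls ∧
      ∀ z, cls z = 0 ↔ ∃ w : (CohIII.bcCx (algebraMap R x.asIdeal.ResidueField) P).X (1 - (g : ℤ)),
        ((CohIII.bcCx (algebraMap R x.asIdeal.ResidueField) P).d (1 - (g : ℤ)) (1 - ((g + 1 : ℕ) : ℤ))).hom w = z :=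
    exists_cls (CohIII.bcCx (algebraMap R x.asIdeal.ResidueField) P)
      (1 - (g : ℤ)) (1 - ((g + 1 : ℕ) : ℤ)) (1 - ((g + 1 + 1 : ℕ) : ℤ))
      (ComplexShape.prev_eq' _ (rel g)) (ComplexShape.next_eq' _ (rel (g + 1)))
  let oc : LinearMap.ker D → LinearMap.ker D' := fun z => ⟨one x _ z.1, by
    rw [LinearMap.mem_ker]
    exact (ext_d P x _ _ z.1).trans ((congrArg (one x _) z.2).trans (one_zero' x _))⟩
  let π' : C P (g + 1) →ₗ[R] LinearMap.ker D := π.codRestrict _ hπ1
  have hπ' : ∀ z : LinearMap.ker D, π' z.1 = z := fun z => Subtype.ext (hπ2 z.1 z.2)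
  have hmem : ∀ z : LinearMap.ker D, z.1 ∈ (x.asIdeal • (⊤ : Submodule R (C P (g + 1)))) → cls z ∈ J := by
    intro z hz
    have h1 : ∀ v ∈ (x.asIdeal • (⊤ : Submodule R (C P (g + 1)))), cls (π' v) ∈ J := by
      intro v hv
      induction hv using Submodule.smul_induction_on' with
      | smul i hi w _ =>
        rw [map_smul, map_smul]
        exact Submodule.smul_mem_smul hi trivial
      | add a _ b _ ha hb =>
        rw [map_add, map_add]
        exact add_mem ha hb
    have h2 := h1 z.1 hz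
    rwa [hπ' z] at h2
  have key : ∀ (z0 z : LinearMap.ker D) (r : R),
      cls' (oc z) = algebraMap R x.asIdeal.ResidueField r • cls' (oc z0) → cls z - r • cls z0 ∈ J := by
    intro z0 z r h
    have h1 : cls' (oc z - algebraMap R x.asIdeal.ResidueField r • oc z0) = 0 := by
      rw [map_sub, map_smul, h, sub_self]
    obtain ⟨w, hw⟩ := (hcls0' _).mp h1
    obtain ⟨w0, rfl⟩ := exists_one x _ w
    have h2 : one x (P.X (1 - ((g + 1 : ℕ) : ℤ))) (z.1 - r • z0.1 - (P.d (1 - (g : ℤ)) (1 - ((g + 1 : ℕ) : ℤ))).hom w0) =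
        0 := by
      rw [one_sub, one_sub, one_smul', ← ext_d, hw]
      exact sub_self _
    have h3 := mem_of_one_eq_zero x _ _ h2
    let dw : LinearMap.ker D := ⟨(P.d (1 - (g : ℤ)) (1 - ((g + 1 : ℕ) : ℤ))).hom w0, δ_δ P g w0⟩
    have h4 : cls (z - r • z0 - dw) ∈ J := hmem _ h3
    have h5 : cls dw = 0 := (hcls0 dw).mpr ⟨w0, rfl⟩
    rwa [map_sub, map_sub, h5, sub_zero, map_smul] at h4
  obtain ⟨m0, hm0⟩ : ∃ m0 : H, ∀ m' : H, ∃ r : R, m' - r • m0 ∈ J := by
    by_cases hz : ∃ z0 : LinearMap.ker D, cls' (oc z0) ≠ 0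
    · obtain ⟨z0, hz0⟩ := hz
      refine ⟨cls z0, fun m' => ?_⟩
      obtain ⟨z, rfl⟩ := hcls m'
      obtain ⟨c, hc⟩ := exists_smul_eq_of_finrank_eq_one hrank hz0 (cls' (oc z))
      obtain ⟨r, rfl⟩ := Ideal.algebraMap_residueField_surjective x.asIdeal c
      exact ⟨r, key z0 z r hc.symm⟩
    · push Not at hz
      refine ⟨0, fun m' => ?_⟩
      obtain ⟨z, rfl⟩ := hcls m'
      refine ⟨0, ?_⟩
      have := key 0 z 0 (by rw [hz, map_zero, zero_smul])
      rwa [zero_smul, sub_zero] at this ⊢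
  refine ⟨m0, ?_⟩
  have h1 : (⊤ : Submodule R H) ≤ Submodule.span R {m0} ⊔ x.asIdeal • ⊤ := by
    intro m' _
    obtain ⟨r, hr⟩ := hm0 m'
    rw [Submodule.mem_sup]
    exact ⟨r • m0, Submodule.mem_span_singleton.mpr ⟨r, rfl⟩, _, hr, by abel⟩
  have h2 : ∀ k : ℕ, (⊤ : Submodule R H) ≤ Submodule.span R {m0} ⊔ x.asIdeal ^ k • ⊤ := by
    intro k
    induction k with
    | zero => rw [pow_zero, Ideal.one_eq_top, Submodule.top_smul]; exact le_sup_right
    | succ k ih =>
      refine ih.trans (sup_le le_sup_left ?_)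
      calc x.asIdeal ^ k • (⊤ : Submodule R H) ≤ x.asIdeal ^ k • (Submodule.span R {m0} ⊔ x.asIdeal • ⊤) :=
            Submodule.smul_mono le_rfl h1
        _ ≤ Submodule.span R {m0} ⊔ x.asIdeal ^ (k + 1) • ⊤ := by
            rw [Submodule.smul_sup, ← Submodule.mul_smul, ← pow_succ]
            exact sup_le_sup_right Submodule.smul_le_right _
  intro m'
  have h3 := h2 N (Submodule.mem_top (x := m'))
  have h4 : x.asIdeal ^ N • (⊤ : Submodule R H) = ⊥ := by
    rw [eq_bot_iff, Submodule.smul_le]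
    intro r hr m _
    rw [hN r hr m]
    exact zero_mem _
  rw [h4, sup_bot_eq, Submodule.mem_span_singleton] at h3
  obtain ⟨r, hr⟩ := h3
  exact ⟨r, hr.symm⟩

end Cyc

end K529.TopCx
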