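import Groth.Agent.Ega3B.Package

/-!
# The cohomology-and-base-change package, with the functor `M ↦ H^0(f⁻¹ V, F ⊗ M)`
-/

set_option autoImplicit false
universe u

open AlgebraicGeometry CategoryTheory CategoryTheory.Limits

namespace K529.TopPack

open Groth.Agent.Ega3B Groth.Agent.Ega3B.PackageAsm

/-- the square of `f⁻¹ V ⟶ Spec Γ(Y, V)` and `f` -/
theorem isPullback_strMap {X Y : Scheme.{u}} (f : X ⟶ Y) {V : Y.Opens} (hV : IsAffineOpen V) :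
    IsPullback (f ⁻¹ᵁ V).ι (strMap f hV) f hV.fromSpec := by
  have h := (isPullback_morphismRestrict f V).flip
  have h2 : IsPullback (𝟙 _) (strMap f hV) (f ∣_ V) hV.isoSpec.inv :=
    IsPullback.of_horiz_isIso ⟨by
      change 𝟙 _ ≫ (f ∣_ V) = ((f ∣_ V) ≫ hV.isoSpec.hom) ≫ hV.isoSpec.inv
      rw [Category.id_comp, Category.assoc, Iso.hom_inv_id, Category.comp_id]⟩
  have h3 := h2.paste_horiz h
  rwa [Category.id_comp, IsAffineOpen.isoSpec_inv_ι] at h3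

theorem package {X Y : Scheme.{u}} (f : X ⟶ Y) [IsProper f] [IsLocallyNoetherian Y]
    [HasInjectiveResolutions X.Modules] (F : X.Modules) (hF : Coh.IsCoh F)
    (hfl : FlatMod.IsFlatOver f F) (V : Y.Opens) (hV : IsAffineOpen V) :
    letI : (f ⁻¹ᵁ V).toScheme.Over (Spec (CommRingCat.of Γ(Y, V))) := ⟨strMap f hV⟩
    ∃ P : ChainComplex (ModuleCat.{u} Γ(Y, V)) ℤ,
      (∀ i, Module.Finite Γ(Y, V) (P.X i) ∧ Module.Flat Γ(Y, V) (P.X i)) ∧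
      (∃ b : ℤ, ∀ i, (i < b ∨ 0 < i) → IsZero (P.X i)) ∧
      (∀ p : ℕ, Nonempty (Γ((Coh.Rpush f p).obj F, V) ≃ₗ[Γ(Y, V)] P.homology (-(p : ℤ)))) ∧
      (∀ (y : V) (p : ℕ), CohIII.fiberRank f F p y.1 = CohIII.dRank P (-(p : ℤ)) (hV.primeIdealOf y)) ∧
      Nonempty (CohIII.tensorAFunctor Γ(Y, V) (F.restrict (f ⁻¹ᵁ V).ι) ⋙ CohIII.HAb _ 0 ≅
        CohIII.TFun P 0 ⋙ forget₂ (ModuleCat.{u} Γ(Y, V)) AddCommGrpCat.{u}) := by
  have hN : IsNoetherianRing Γ(Y, V) := IsLocallyNoetherian.component_noetherian ⟨V, hV⟩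
  let iO : (f ⁻¹ᵁ V).toScheme.Over (Spec (CommRingCat.of Γ(Y, V))) := ⟨strMap f hV⟩
  have hpr : IsProper ((f ⁻¹ᵁ V).toScheme ↘ Spec (CommRingCat.of Γ(Y, V))) :=
    inferInstanceAs (IsProper ((f ∣_ V) ≫ hV.isoSpec.hom))
  have hF' : Coh.IsCoh (F.restrict (f ⁻¹ᵁ V).ι) := Groth.Agent.CohqB.LocalQC.isCoh_restrict _ hF
  have hfl' : FlatMod.IsFlatOver ((f ⁻¹ᵁ V).toScheme ↘ Spec (CommRingCat.of Γ(Y, V)))
      (F.restrict (f ⁻¹ᵁ V).ι) := by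
    refine FlatRestrict.isFlatOver_restrict f _ (f ⁻¹ᵁ V).ι hV.fromSpec ?_ F hfl
    change _ = ((f ∣_ V) ≫ hV.isoSpec.hom) ≫ hV.fromSpec
    rw [Category.assoc, IsAffineOpen.isoSpec_hom_fromSpec, morphismRestrict_ι]
  have hR : ∀ p, RpushSec f F hV p := fun p => RpushAff.exists_equiv_toGlobal f F hF.1 hV p
  have hFib : ∀ y p, FibreSec f F hV y p := fun y p => FibreResid.fibreSec_of f F hV y p fun g q H => by
    obtain ⟨e, he⟩ := FibreCmp.exists_cmp g q H (F.restrict (f ⁻¹ᵁ V).ι)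
      (Groth.Agent.CohqB.LocalQC.isQCoh_restrict (f ⁻¹ᵁ V).ι hF.1) p
    exact ⟨e, fun a x => by rw [he, FibreCmp.mulB_algebraMap]⟩
  obtain ⟨P, hP, hb, hT, hH⟩ := Master.exists_complex' (f ⁻¹ᵁ V).toScheme (F.restrict (f ⁻¹ᵁ V).ι) hF' hfl'
  refine ⟨P, hP, hb, fun p => ?_, fun y p => ?_, hT 0⟩
  · obtain ⟨e, he⟩ := hR p
    obtain ⟨e'⟩ := hH p
    let e0 : Γ((Coh.Rpush f p).obj F, V) ≃ₗ[Γ(Y, V)]
        Coh.HH (f ⁻¹ᵁ V).toScheme (F.restrict (f ⁻¹ᵁ V).ι) p := { e with map_smul' := he }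
    exact ⟨e0.trans e'.symm⟩
  · obtain ⟨e, he⟩ := hFib y p
    obtain ⟨e'⟩ := hT p
    obtain ⟨σ, hσ⟩ := FibreRank.exists_sigma hV y
    have := (hP (-(p : ℤ))).1
    refine (FibreRank.finrank_eq_dRank P (-(p : ℤ)) (hV.primeIdealOf y)
      (Y.evaluation V y.1 y.2).hom σ hσ (FibreRank.exists_fraction hV y)
      (e.trans (e'.app _).addCommGroupIsoToAddEquiv) ?_).2
    intro a w
    have h1 := e'.hom.naturality (a • 𝟙 (ModuleCat.of Γ(Y, V) (hV.primeIdealOf y).asIdeal.ResidueField))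
    have h2 := congr($(h1) (e w))
    change (e'.hom.app _).hom (e _) = _
    rw [he]
    exact h2

end K529.TopPack
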