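import Groth.Agent.AbVar.K529.TopCx
import Groth.Agent.AbVar.K529.TopRep
import Groth.Agent.AbVar.K529.TopPack
import Groth.Agent.AbVar.K524.FinSupp
import Groth.Agent.Grpsch.CubePush

/-!
# The top direct image, local form

`f : X ⟶ Y` flat and proper with `f_* O = O` universally, `E` invertible on `X`, `j : Z ⟶ Y` a closed immersion
representing the locus where `E` is trivial, `V` an affine open of `Y` containing exactly one point `z` of `Z`, closed in
`Y`, whose local ring has a regular sequence of length `g`; the Betti numbers of `E` vanish outside `Z` and in degrees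
`> g`, and the `g`-th one is `1` at `z`.  Then `Γ(V, R^g f_* E)` is isomorphic to `Γ(V, O) / I_Z`.
-/

set_option autoImplicit false
universe u

open AlgebraicGeometry CategoryTheory CategoryTheory.Limits RingTheory.Sequence TopologicalSpace

namespace K529.TopMain

open Groth.Agent.Ega3B.PackageAsm
open Groth.Agent.Flat2F.BasAlg Groth.Agent.Flat2F.BCSec
open Groth.Agent.Flat2F.LocBas Groth.Agent.Flat2F.ImmGlue Groth.Agent.Flat2F.DescLocal

section Alg

theorem exists_pow_kill {R : Type u} [CommRing R] [IsNoetherianRing R] (H : Type u) [AddCommGroup H] [Module R H]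
    [Module.Finite R H] (x : PrimeSpectrum R)
    (hs : ∀ x' : PrimeSpectrum R, x' ≠ x → Subsingleton (LocalizedModule x'.asIdeal.primeCompl H)) :
    ∃ N : ℕ, ∀ r ∈ x.asIdeal ^ N, ∀ m : H, r • m = 0 := by
  have h1 : x.asIdeal ≤ (Module.annihilator R H).radical := by
    intro r hr
    rw [Ideal.radical_eq_sInf, Submodule.mem_sInf]
    rintro J ⟨hJ, hJp⟩
    have h2 : (⟨J, hJp⟩ : PrimeSpectrum R) ∈ Module.support R H := by
      rw [Module.support_eq_zeroLocus]
      exact hJ
    have h3 : (⟨J, hJp⟩ : PrimeSpectrum R) = x := by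
      by_contra hne
      rw [Module.mem_support_iff] at h2
      exact not_subsingleton _ (hs _ hne)
    have h4 : J = x.asIdeal := congrArg PrimeSpectrum.asIdeal h3
    rw [h4]
    exact hr
  obtain ⟨N, hN⟩ := Ideal.exists_pow_le_of_le_radical_of_fg h1 (isNoetherian_def.mp ‹_› _)
  exact ⟨N, fun r hr m => Module.mem_annihilator.mp (hN hr) m⟩

theorem eq_zero_of_smul {R : Type u} [CommRing R] {H : Type u} [AddCommGroup H] [Module R H] (x : Ideal R)
    [hx : x.IsMaximal] (N : ℕ) (m : H) (hN : ∀ r ∈ x ^ N, r • m = 0) (s : R) (hs : s ∉ x) (hsm : s • m = 0) : m = 0 := by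
  have h1 : IsCoprime (Ideal.span {s}) x := by
    rw [Ideal.isCoprime_iff_sup_eq, sup_comm]
    by_contra hne
    have := hx.eq_of_le hne (le_sup_left (b := Ideal.span {s}))
    apply hs
    rw [this]
    exact Ideal.mem_sup_right (Ideal.mem_span_singleton_self s)
  have h2 : IsCoprime (Ideal.span {s}) (x ^ N) := h1.pow_right
  rw [Ideal.isCoprime_iff_exists] at h2
  obtain ⟨a, ha, b, hb, hab⟩ := h2
  obtain ⟨c, rfl⟩ := Ideal.mem_span_singleton'.mp ha
  rw [← one_smul R m, ← hab, add_smul, mul_smul, hsm, smul_zero, hN b hb, add_zero]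

end Alg

/-- A morphism from a reduced scheme whose image lies in the image of a closed immersion factors through it. -/
theorem exists_factor {Y Z T : Scheme.{u}} (j : Z ⟶ Y) [IsClosedImmersion j] (t : T ⟶ Y) [IsReduced T]
    (h : ∀ x, t.base x ∈ Set.range j.base) : ∃ t', t' ≫ j = t := by
  have h1 : Surjective (pullback.snd j t) := ⟨fun x => by
    obtain ⟨z, hz⟩ := h x
    obtain ⟨w, -, hw⟩ := Scheme.Pullback.exists_preimage_pullback (f := j) (g := t) z x hz
    exact ⟨w, hw⟩⟩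
  have h2 : IsIso (pullback.snd j t) := isIso_of_isClosedImmersion_of_surjective _
  exact ⟨inv (pullback.snd j t) ≫ pullback.fst j t, by
    rw [Category.assoc, pullback.condition, IsIso.inv_hom_id_assoc]⟩

/-- If `Spec C ⟶ Spec Γ(Y, V) ⟶ Y` factors through `j`, then `Γ(Y, V) ⟶ C` kills the kernel of `j` on `V`. -/
theorem map_eq_zero {Y Z : Scheme.{u}} (j : Z ⟶ Y) {V : Y.Opens} (hV : IsAffineOpen V) {C : CommRingCat.{u}}
    (τ : Γ(Y, V) ⟶ C) (t' : Spec C ⟶ Z) (h : t' ≫ j = Spec.map τ ≫ hV.fromSpec) (a : Γ(Y, V))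
    (ha : j.app V a = 0) : τ a = 0 := by
  have hle : (⊤ : (Spec C).Opens) ≤ (t' ≫ j) ⁻¹ᵁ V := by
    intro x _
    rw [h]
    change hV.fromSpec.base ((Spec.map τ).base x) ∈ V
    have h2 : (Spec.map τ).base x ∈ hV.fromSpec ⁻¹ᵁ V := by rw [hV.fromSpec_preimage_self]; trivial
    exact h2
  have h1 := IsAffineOpen.SpecMap_appLE_fromSpec (t' ≫ j) hV (isAffineOpen_top (Spec C)) hle
  have h2 : (t' ≫ j).appLE V ⊤ hle = τ ≫ (Scheme.ΓSpecIso C).inv := by
    apply Spec.map_injective
    rw [← cancel_mono hV.fromSpec, h1, h, IsAffineOpen.fromSpec_top, Scheme.isoSpec_Spec_inv, Spec.map_comp,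
      Category.assoc]
  have h3 : (t' ≫ j).appLE V ⊤ hle a = 0 := by
    rw [Scheme.Hom.appLE, Scheme.Hom.comp_app]
    change ((Spec C).presheaf.map _) (t'.app _ (j.app V a)) = 0
    rw [ha, map_zero, map_zero]
  rw [h2] at h3
  have h4 : (Scheme.ΓSpecIso C).inv (τ a) = 0 := h3
  have h5 : Function.Injective (Scheme.ΓSpecIso C).inv := (ConcreteCategory.bijective_of_isIso (Scheme.ΓSpecIso C).inv).1
  apply h5
  rw [h4, map_zero]

theorem smul_of_iso {X : Scheme.{u}} {M N : X.Modules} (e : M ≅ N) (c : Γ(X, ⊤)) (h : ∀ s : Γ(M, ⊤), c • s = 0)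
    (s : Γ(N, ⊤)) : c • s = 0 := by
  have h1 := h (e.inv.app ⊤ s)
  have h2 := congrArg (e.hom.app ⊤) h1
  rw [Scheme.Modules.Hom.app_smul, map_zero] at h2
  have h3 : e.hom.app ⊤ (e.inv.app ⊤ s) = s :=
    ConcreteCategory.congr_hom (congrArg (fun k => Scheme.Modules.Hom.app k ⊤) e.inv_hom_id) s
  rwa [h3] at h2

section

variable {X Y Z : Scheme.{u}} (f : X ⟶ Y) [Flat f] [IsProper f] [LocallyOfFinitePresentation f] (hO : UO f)
  {E : X.Modules} (hE : PicF.IsInvertible E)
  (j : Z ⟶ Y) (hZ : ∀ (B : CommRingCat.{u}) [IsLocalRing B] (t : Spec B ⟶ Y), (∃ t', t' ≫ j = t) ↔ CP f E t)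

include hO hE hZ in
theorem kills_local {S : CommRingCat.{u}} [IsLocalRing S] (t : Spec S ⟶ Y)
    (hcl : CP f E (Spec.map (CommRingCat.ofHom (IsLocalRing.residue S)) ≫ t)) :
    ∃ J : Ideal S, (J = ⊤ ∨ ∃ t' : Spec (CommRingCat.of (S ⧸ J)) ⟶ Z, t' ≫ j = zι J ≫ t) ∧
      ∀ {B : CommRingCat.{u}} {φ : S ⟶ B} {X' : Scheme.{u}} {a : X' ⟶ X} {p : X' ⟶ Spec B}
        (_ : IsPullback a p f (Spec.map φ ≫ t)) (c : S), c ∈ J →
        ∀ s : Γ((Scheme.Modules.pullback a).obj E, ⊤), scal p (φ c) • s = 0 := by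
  have H := IsPullback.of_hasPullback f t
  obtain ⟨J, hJ1, hJ2⟩ := TopRep.exists_ideal (pullback.snd f t) (hO.baseChange H)
    (Groth.Agent.Fdesc.LocGen.isInvertible_pullback (pullback.fst f t) hE)
    ((CP_baseChange H _).mpr hcl)
  refine ⟨J, ?_, ?_⟩
  · by_cases hJ : J = ⊤
    · exact Or.inl hJ
    · right
      have : Nontrivial (S ⧸ J) := Ideal.Quotient.nontrivial_iff.mpr hJ
      have hl : IsLocalRing (CommRingCat.of (S ⧸ J)) :=
        IsLocalRing.of_surjective' (Ideal.Quotient.mk J) Ideal.Quotient.mk_surjective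
      exact (hZ (CommRingCat.of (S ⧸ J)) _).mpr ((CP_baseChange H _).mp hJ1)
  · intro B φ X' a p Hp c hc s
    have hp : a ≫ f = (p ≫ Spec.map φ) ≫ t := by rw [Hp.w, Category.assoc]
    let a' : X' ⟶ pullback f t := pullback.lift a (p ≫ Spec.map φ) hp
    have ha' : a' ≫ pullback.fst f t = a := pullback.lift_fst _ _ _
    have H' : IsPullback a' p (pullback.snd f t) (Spec.map φ) := by
      refine IsPullback.of_right ?_ (pullback.lift_snd _ _ _) H
      rw [ha']
      exact Hp
    exact smul_of_iso (cmp a' (pullback.fst f t) a ha' E) _ (hJ2 H' c hc) s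

end

section Main

variable {X Y Z : Scheme.{u}} (f : X ⟶ Y) [Flat f] [IsProper f] [LocallyOfFinitePresentation f]
  [IsLocallyNoetherian Y] [HasInjectiveResolutions X.Modules]
  {E : X.Modules} (hE : PicF.IsInvertible E) (j : Z ⟶ Y) (g : ℕ)
  (hacyc : ∀ y ∉ Set.range j.base, ∀ p, CohIII.fiberRank f E p y = 0)
  (htop : ∀ y p, g < p → CohIII.fiberRank f E p y = 0)
  (hreg : ∀ y ∈ Set.range j.base, K524.FinSupp.HasReg (Y.presheaf.stalk y) g)

theorem isCoh_of_isInvertible {X : Scheme.{u}} {E : X.Modules} (hE : PicF.IsInvertible E) : Coh.IsCoh E :=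
  Groth.Agent.Models2.FPCoh.isCoh_of_isFP (Groth.Agent.Desc.FinLocFreeSections.isFP_of_isFinLocFree
      (Groth.Agent.Grpsch.CubeClosed.isFinLocFree_of_isInvertible hE))

omit [LocallyOfFinitePresentation f] in
include hE hacyc htop hreg in
theorem isZero_ne (p : ℕ) (hp : p ≠ g) : IsZero ((Coh.Rpush f p).obj E) := by
  have hfl := Groth.Agent.Grpsch.CubeClosed.isFlatOver_of_isInvertible f hE
  rcases lt_or_gt_of_ne hp with h | h
  · exact K524.FinSupp.isZero_Rpush f E (isCoh_of_isInvertible hE) hfl g (fun y hy => by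
      obtain ⟨q, -, hq⟩ := hy
      exact hreg y (by
        by_contra hne
        exact hq (hacyc y hne q))) p h
  · exact K524.FinSupp.isZero_Rpush_of_fiberRank f E (isCoh_of_isInvertible hE) hfl p fun y => htop y p h

omit [IsLocallyNoetherian Y] [HasInjectiveResolutions X.Modules] in
/-- The sections of `E` over the base change to a quotient of the local ring at `z` are killed by the ideal of `Z`. -/
theorem kills_quot (hO : UO f) (hE : PicF.IsInvertible E) (j : Z ⟶ Y) [IsClosedImmersion j]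
    (hZ : ∀ (B : CommRingCat.{u}) [IsLocalRing B] (t : Spec B ⟶ Y), (∃ t', t' ≫ j = t) ↔ CP f E t)
    (V : Y.Opens) (hV : IsAffineOpen V) (z : V) (hz : z.1 ∈ Set.range j.base) (a : Γ(Y, V)) (ha : j.app V a = 0)
    (I' : Ideal (Localization.AtPrime (hV.primeIdealOf z).asIdeal)) {X' : Scheme.{u}} {q : X' ⟶ (f ⁻¹ᵁ V).toScheme}
    {p : X' ⟶ Spec (CommRingCat.of (Localization.AtPrime (hV.primeIdealOf z).asIdeal ⧸ I'))}
    (H : IsPullback q p (strMap f hV) (Spec.map (CommRingCat.ofHom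
      (algebraMap Γ(Y, V) (Localization.AtPrime (hV.primeIdealOf z).asIdeal ⧸ I')))))
    (s : Γ((Scheme.Modules.pullback q).obj (E.restrict (f ⁻¹ᵁ V).ι), ⊤)) :
    scal p (algebraMap Γ(Y, V) (Localization.AtPrime (hV.primeIdealOf z).asIdeal ⧸ I') a) • s = 0 := by
  let x := hV.primeIdealOf z
  let S : CommRingCat.{u} := CommRingCat.of (Localization.AtPrime x.asIdeal)
  have hS : IsLocalRing S := inferInstanceAs (IsLocalRing (Localization.AtPrime x.asIdeal))
  let lam : Γ(Y, V) ⟶ S := CommRingCat.ofHom (algebraMap Γ(Y, V) (Localization.AtPrime x.asIdeal))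
  let t : Spec S ⟶ Y := Spec.map lam ≫ hV.fromSpec
  have hcl : CP f E (Spec.map (CommRingCat.ofHom (IsLocalRing.residue S)) ≫ t) := by
    have hK : IsLocalRing (CommRingCat.of (IsLocalRing.ResidueField S)) :=
      inferInstanceAs (IsLocalRing (IsLocalRing.ResidueField S))
    have hR : IsReduced (Spec (CommRingCat.of (IsLocalRing.ResidueField S))) := inferInstance
    refine (hZ (CommRingCat.of (IsLocalRing.ResidueField S)) _).mp (exists_factor j _ fun w => ?_)
    have h1 : (Spec.map (CommRingCat.ofHom (IsLocalRing.residue S))).base w = IsLocalRing.closedPoint S := by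
      have hw : w = IsLocalRing.closedPoint (IsLocalRing.ResidueField S) :=
        Subsingleton.elim (α := PrimeSpectrum (IsLocalRing.ResidueField S)) _ _
      rw [hw]
      exact IsLocalRing.comap_closedPoint (IsLocalRing.residue S)
    have h2 : (Spec.map lam).base (IsLocalRing.closedPoint S) = x := by
      apply PrimeSpectrum.ext
      exact Localization.AtPrime.under_maximalIdeal (I := x.asIdeal)
    have h3 : (Spec.map (CommRingCat.ofHom (IsLocalRing.residue S)) ≫ t).base w = z.1 := by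
      change hV.fromSpec.base ((Spec.map lam).base ((Spec.map (CommRingCat.ofHom (IsLocalRing.residue S))).base w)) = z.1
      rw [h1, h2]
      exact hV.fromSpec_primeIdealOf z
    rw [h3]
    exact hz
  obtain ⟨J, hJ1, hJ2⟩ := kills_local f hO hE j hZ t hcl
  have haJ : lam a ∈ J := by
    rcases hJ1 with rfl | ⟨t', ht'⟩
    · trivial
    · have h4 := map_eq_zero j hV (lam ≫ CommRingCat.ofHom (Ideal.Quotient.mk J)) t' (by
        rw [ht', Spec.map_comp, Category.assoc]) a ha
      exact Ideal.Quotient.eq_zero_iff_mem.mp h4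
  let φ : S ⟶ CommRingCat.of (Localization.AtPrime x.asIdeal ⧸ I') := CommRingCat.ofHom (Ideal.Quotient.mk I')
  have Hp : IsPullback (q ≫ (f ⁻¹ᵁ V).ι) p f (Spec.map φ ≫ t) := by
    have h5 := H.paste_horiz (TopPack.isPullback_strMap f hV)
    have h6 : Spec.map (CommRingCat.ofHom (algebraMap Γ(Y, V) (Localization.AtPrime x.asIdeal ⧸ I'))) ≫ hV.fromSpec =
        Spec.map φ ≫ t := by
      rw [← Category.assoc, ← Spec.map_comp]
      rfl
    rw [← h6]
    exact h5
  refine smul_of_iso (((Scheme.Modules.pullback q).mapIso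
    ((Scheme.Modules.restrictFunctorIsoPullback (f ⁻¹ᵁ V).ι).app E)) ≪≫ cmp q (f ⁻¹ᵁ V).ι _ rfl E).symm _ (fun s' => ?_) s
  exact hJ2 Hp (lam a) haJ s'

theorem isLocalRing_of_point {Z : Scheme.{u}} {W : Z.Opens} (hW : IsAffineOpen W) (w : W)
    (hw : ∀ w' : W, w' = w) : IsLocalRing Γ(Z, W) := by
  have hsub : Subsingleton (PrimeSpectrum Γ(Z, W)) := by
    constructor
    intro a b
    obtain ⟨a', rfl⟩ := K524.FinSupp.exists_point hW a
    obtain ⟨b', rfl⟩ := K524.FinSupp.exists_point hW b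
    rw [hw a', hw b']
  have hne : Nontrivial Γ(Z, W) := by
    have : Nonempty (PrimeSpectrum Γ(Z, W)) := ⟨hW.primeIdealOf w⟩
    exact PrimeSpectrum.nonempty_iff_nontrivial.mp this
  refine IsLocalRing.of_unique_max_ideal ?_
  obtain ⟨M, hM⟩ := Ideal.exists_maximal Γ(Z, W)
  refine ⟨M, hM, fun M' hM' => ?_⟩
  have h := Subsingleton.elim (⟨M', hM'.isPrime⟩ : PrimeSpectrum Γ(Z, W)) ⟨M, hM.isPrime⟩
  exact congrArg PrimeSpectrum.asIdeal h

omit [IsLocallyNoetherian Y] [HasInjectiveResolutions X.Modules] [LocallyOfFinitePresentation f] [Flat f] [IsProper f] in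
theorem app_eq_zero (hO : UO f) (hE : PicF.IsInvertible E) (j : Z ⟶ Y) [IsClosedImmersion j]
    (hZ : ∀ (B : CommRingCat.{u}) [IsLocalRing B] (t : Spec B ⟶ Y), (∃ t', t' ≫ j = t) ↔ CP f E t)
    (V : Y.Opens) (hV : IsAffineOpen V) (w : ↥(j ⁻¹ᵁ V)) (hw : ∀ w' : ↥(j ⁻¹ᵁ V), w' = w) (a : Γ(Y, V))
    {X' : Scheme.{u}} {q : X' ⟶ (f ⁻¹ᵁ V).toScheme} {p : X' ⟶ Spec Γ(Z, j ⁻¹ᵁ V)}
    (H : IsPullback q p (strMap f hV) (Spec.map (j.app V)))
    (ha : ∀ s : Γ((Scheme.Modules.pullback q).obj (E.restrict (f ⁻¹ᵁ V).ι), ⊤), scal p (j.app V a) • s = 0) :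
    j.app V a = 0 := by
  have hW : IsAffineOpen (j ⁻¹ᵁ V) := hV.preimage j
  have hloc : IsLocalRing Γ(Z, j ⁻¹ᵁ V) := isLocalRing_of_point hW w hw
  have h1 : Spec.map (j.app V) ≫ hV.fromSpec = hW.fromSpec ≫ j := by
    have := IsAffineOpen.SpecMap_appLE_fromSpec j hV hW le_rfl
    rwa [← Scheme.Hom.app_eq_appLE] at this
  have h2 : CP f E (Spec.map (j.app V) ≫ hV.fromSpec) := (hZ _ _).mp ⟨hW.fromSpec, h1.symm⟩
  have h3 : LB ((Scheme.Modules.pullback (f ⁻¹ᵁ V).ι).obj E) q p := by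
    rw [← CP_iff H, CP_baseChange (TopPack.isPullback_strMap f hV)]
    exact h2
  have h4 : UO (strMap f hV) := hO.baseChange (TopPack.isPullback_strMap f hV)
  have h5 : IsIso (p.app ⊤) := h4.isIso_app H ⊤
  refine TopRep.eq_zero_of_kill (Groth.Agent.Fdesc.LocGen.isInvertible_pullback (f ⁻¹ᵁ V).ι hE) h3 _ fun s => ?_
  exact smul_of_iso ((Scheme.Modules.pullback q).mapIso
    ((Scheme.Modules.restrictFunctorIsoPullback (f ⁻¹ᵁ V).ι).app E)) _ ha s

include hE hacyc htop hreg in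
/-- The local form of the top direct image. -/
theorem main_local (hO : UO f) [IsClosedImmersion j]
    (hZ : ∀ (B : CommRingCat.{u}) [IsLocalRing B] (t : Spec B ⟶ Y), (∃ t', t' ≫ j = t) ↔ CP f E t)
    (V : Y.Opens) (hV : IsAffineOpen V) (z : V) (hz : z.1 ∈ Set.range j.base) (hcl : IsClosed ({z.1} : Set Y))
    (hVz : ∀ y ∈ V, y ∈ Set.range j.base → y = z.1) (hone : CohIII.fiberRank f E g z.1 = 1) :
    Nonempty (Γ((Coh.Rpush f g).obj E, V) ≃ₗ[Γ(Y, V)] (Γ(Y, V) ⧸ RingHom.ker (j.app V).hom)) := by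
  have hcoh := isCoh_of_isInvertible hE
  have hfl := Groth.Agent.Grpsch.CubeClosed.isFlatOver_of_isInvertible f hE
  have hN : IsNoetherianRing Γ(Y, V) := IsLocallyNoetherian.component_noetherian ⟨V, hV⟩
  let iO : (f ⁻¹ᵁ V).toScheme.Over (Spec (CommRingCat.of Γ(Y, V))) := ⟨strMap f hV⟩
  let x := hV.primeIdealOf z
  have hx : x.asIdeal.IsMaximal := hV.primeIdealOf_isMaximal_of_isClosed z hcl
  obtain ⟨P, hP, ⟨b, hb⟩, hP2, hP3, ⟨e⟩⟩ := TopPack.package f E hcoh hfl V hV
  obtain ⟨eg⟩ := hP2 g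
  have hfin := fun i => (hP i).1
  have hflat := fun i => (hP i).2
  have hpos : ∀ i, 0 < i → IsZero (P.X i) := fun i hi => hb i (Or.inr hi)
  have hqc : Coh.IsQCoh (E.restrict (f ⁻¹ᵁ V).ι) := Groth.Agent.CohqB.LocalQC.isQCoh_restrict (f ⁻¹ᵁ V).ι hcoh.1
  -- vanishing of the homology outside degree `g`
  have hex : ∀ p : ℕ, p ≠ g → Subsingleton (P.homology (-(p : ℤ))) := by
    intro p hp
    obtain ⟨ep⟩ := hP2 p
    have h1 := isZero_ne f hE j g hacyc htop hreg p hp
    rw [Groth.Agent.Ega3B.RpushAff.isZero_iff f E hcoh.1 p] at h1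
    have h2 := (Groth.Agent.Ega3B.RpushAff.subsingleton_iff f E hcoh.1 hV p).mpr (h1 V hV)
    exact ep.symm.toEquiv.subsingleton
  -- the support of the homology
  have hfinH : Module.Finite Γ(Y, V) (P.homology (-(g : ℤ))) := by
    have := hfin (-(g : ℤ))
    exact Groth.Agent.Ega3B.FibreRank.finite_homology P _
  obtain ⟨N, hN'⟩ := exists_pow_kill (P.homology (-(g : ℤ))) x (fun x' hx' => by
    obtain ⟨y', rfl⟩ := K524.FinSupp.exists_point hV x'
    have hy' : y'.1 ∉ Set.range j.base := by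
      intro hy'
      apply hx'
      have : y' = z := Subtype.ext (hVz y'.1 y'.2 hy')
      rw [this]
    refine Groth.Agent.Ega3B.VanishFibre.subsingleton_localized_homology P (-(g : ℤ)) (-(g : ℤ) - 1)
      (by simp [ComplexShape.down]) (hfin _) (hfin _) (hflat _) _ ?_
    rw [← hP3 y' g]
    exact hacyc y'.1 hy' g)
  -- the ideal of `Z` kills
  have hI : ∀ a : Γ(Y, V), j.app V a = 0 → ∀ m : P.homology (-(g : ℤ)), a • m = 0 := by
    intro a ha m
    obtain ⟨rs, hrs, hmem, hwr⟩ := (hreg z.1 hz).of_equiv (by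
      have := hV.isLocalization_stalk z
      exact (IsLocalization.algEquiv (hV.primeIdealOf z).asIdeal.primeCompl (Y.presheaf.stalk z.1)
        (Localization.AtPrime (hV.primeIdealOf z).asIdeal)).toRingEquiv)
    obtain ⟨s, hs, hsm⟩ := TopCx.kill_localized P hflat hpos g (fun p hp => hex p (by omega)) x.asIdeal rs hrs hmem hwr N
      (fun b hb m => hN' _ (Ideal.pow_mem_pow hb N) m) a (fun I' => by
        refine (TopRep.kill_iff (E.restrict (f ⁻¹ᵁ V).ι) P e hqc (B := Localization.AtPrime x.asIdeal ⧸ I')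
          (IsPullback.of_hasPullback _ _) a).mpr fun s => ?_
        exact kills_quot f hO hE j hZ V hV z hz a ha I' (IsPullback.of_hasPullback _ _) s) m
    refine eq_zero_of_smul x.asIdeal N (a • m) (fun r hr => ?_) s hs hsm
    rw [smul_comm, hN' r hr m, smul_zero]
  -- conversely
  have hI' : ∀ a : Γ(Y, V), (∀ m : P.homology (-(g : ℤ)), a • m = 0) → j.app V a = 0 := by
    intro a ha
    obtain ⟨w, hw⟩ := hz
    have hwV : w ∈ j ⁻¹ᵁ V := by
      change j.base w ∈ V
      rw [hw]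
      exact z.2
    let _ : Algebra Γ(Y, V) Γ(Z, j ⁻¹ᵁ V) := (j.app V).hom.toAlgebra
    have H : IsPullback (pullback.fst (strMap f hV) (Spec.map (j.app V))) (pullback.snd (strMap f hV) (Spec.map (j.app V)))
      (strMap f hV) (Spec.map (j.app V)) := IsPullback.of_hasPullback _ _
    refine app_eq_zero f hO hE j hZ V hV ⟨w, hwV⟩ (fun w' => ?_) a H ?_
    · apply Subtype.ext
      apply j.isClosedEmbedding.injective
      change j.base w'.1 = j.base w
      rw [hw]
      exact hVz _ w'.2 ⟨w'.1, rfl⟩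
    · exact (TopRep.kill_iff (E.restrict (f ⁻¹ᵁ V).ι) P e hqc (B := Γ(Z, j ⁻¹ᵁ V)) H a).mp fun m =>
        TopCx.kill_T0 P hfin hflat hpos b (fun i hi => hb i (Or.inl hi)) g hex a ha _ m
  -- a generator
  obtain ⟨m, hm⟩ := TopCx.exists_generator P hfin hflat b (fun i hi => hb i (Or.inl hi)) g
    (fun p hp => hex p (by omega)) x N hN' (by
      rw [← hP3 z g]
      exact hone)
  have hsurj : Function.Surjective (LinearMap.toSpanSingleton Γ(Y, V) (P.homology (-(g : ℤ))) m) := fun m' => by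
    obtain ⟨r, hr⟩ := hm m'
    exact ⟨r, hr.symm⟩
  have hker : LinearMap.ker (LinearMap.toSpanSingleton Γ(Y, V) (P.homology (-(g : ℤ))) m) =
      RingHom.ker (j.app V).hom := by
    ext a
    rw [LinearMap.mem_ker, LinearMap.toSpanSingleton_apply, RingHom.mem_ker]
    constructor
    · intro ham
      refine hI' a fun m' => ?_
      obtain ⟨r, rfl⟩ := hm m'
      rw [smul_comm, ham, smul_zero]
    · intro ha
      exact hI a ha m
  exact ⟨eg.trans ((Submodule.quotEquivOfEq _ _ hker).symm.trans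
    (LinearMap.quotKerEquivOfSurjective _ hsurj)).symm⟩

end Main

end K529.TopMain
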